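import Groth.Agent.H3CAlg.LocalPic.Free
import Groth.Agent.H11Ample.Restrict
import Groth.Prelude.Def_FEt
import Groth.Agent.H24Punct.Main

/-!
# Invertible modules on a hypersurface of a punctured spectrum spread to a neighbourhood
-/

set_option autoImplicit false
set_option linter.style.haveILetI false

noncomputable section

universe u

open CategoryTheory CategoryTheory.Limits AlgebraicGeometry TopologicalSpace Opposite
open Groth.Agent.H11Tilde Groth.Agent.H11Ample

attribute [-instance] CategoryTheory.catToReflQuiver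
attribute [-instance] Groth.Agent.H10Coh.hasFiniteBiproducts_modules

namespace Groth.Agent.H3CAlg.LocalPic

attribute [local instance 10000] H10Coh.hasSheafifyAb H10Coh.hasWeakSheafifyAb H10Coh.hasExtAb
  H10Coh.enoughInjAb

variable {A : Type u} [CommRing A] {t : A} {X : Scheme.{u}} [X.Over (Spec (CommRingCat.of A))]

theorem surjective_lvlTrans (n : ℕ) : Surjective (lvlTrans t X n) := by
  haveI := H26Def.LineLift.surjective_subschemeι (lvlTrans t X n).ker (sq_ker_lvlTrans n)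
  rw [← (lvlTrans t X n).toImage_imageι]
  infer_instance

variable [IsLocallyNoetherian X] (M : X.Modules) (hM : Coh.IsCoh M)
  (hinv : ∀ k, PicF.IsInvertible ((Scheme.Modules.pullback (lvlι t X k)).obj M))

include hinv in
theorem isGen_levels {V : X.Opens} (m : Γ(M, V))
    (hm : IsGen ((Scheme.Modules.pullback (lvlι t X 0)).obj M) (OmegaSh.pullSect (lvlι t X 0) M V m)) :
    ∀ k, IsGen ((Scheme.Modules.pullback (lvlι t X k)).obj M) (OmegaSh.pullSect (lvlι t X k) M V m)
  | 0 => hm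
  | k + 1 => by
    haveI := surjective_lvlTrans (t := t) (X := X) k
    exact LeadGE.isGen_of_pullSect (lvlTrans t X k) (hinv (k + 1)) _
      (LeadGE.isGen_pullSect_comp (lvlTrans t X k) (lvlι t X (k + 1)) (lvlι t X k) (lvlTrans_ι t X k).symm M m
        (isGen_levels m hm k))

include hM hinv in
/-- A coherent module invertible on all thickenings is generated by one section near the first. -/
theorem exists_gen_nhd (x : lvl t X 0) :
    ∃ (O : X.Opens) (m : Γ(M, O)), lvlι t X 0 x ∈ O ∧ IsGen M m := by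
  haveI := hM.1
  obtain ⟨W, ε, hxW, hε⟩ := exists_gen (hinv 0) x
  obtain ⟨V, hV, hxV, hle⟩ := exists_affine_preimage t X W hxW
  have hquot : ∀ k, H17.PullSect.IsQuotOn (lvlι t X k) M V := fun k => by
    haveI : IsClosedImmersion (lvlι t X k ∣_ V) :=
      IsZariskiLocalAtTarget.restrict (P := @IsClosedImmersion) (f := lvlι t X k) inferInstance _
    exact H17.PullSect.isQuotOn_of_isAffineOpen (lvlι t X k) M hM.1 hV
  obtain ⟨m, hm⟩ := (hquot 0).1
    (((Scheme.Modules.pullback (lvlι t X 0)).obj M).presheaf.map (homOfLE hle).op ε)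
  have hgen := isGen_levels M hinv m (hm ▸ hε.res hle)
  let I : Ideal Γ(X, V) := Ideal.span {H24Formal.scalA A V t}
  have hker : ∀ k, RingHom.ker ((lvlι t X k).app V).hom = I ^ (k + 1) := fun k => by
    rw [ker_lvlι t X k V hV, map_pow, ← Ideal.span_singleton_pow]
  let Q := Submodule.span Γ(X, V) ({m} : Set Γ(M, V))
  have hsp : (⊤ : Submodule Γ(X, V) (Γ(M, V) ⧸ Q)) ≤ I • ⊤ := fun q _ => by
    obtain ⟨σ, rfl⟩ := Submodule.Quotient.mk_surjective Q q
    obtain ⟨c, hc⟩ := exists_coeff (hgen 0) (OmegaSh.pullSect (lvlι t X 0) M V σ)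
    obtain ⟨a, rfl⟩ := (lvlι t X 0).app_surjective V hV c
    rw [← OmegaSh.pullSect_smul] at hc
    have h0 := (hquot 0).2 (σ - a • m) (by rw [map_sub, hc, sub_self])
    rw [hker 0, zero_add, pow_one] at h0
    have hmk : Submodule.Quotient.mk σ = (Submodule.Quotient.mk (σ - a • m) : Γ(M, V) ⧸ Q) :=
      (Submodule.Quotient.eq Q).2 (by
        rw [sub_sub_cancel]
        exact Submodule.smul_mem _ _ (Submodule.mem_span_singleton_self m))
    rw [hmk]
    have h1 := Submodule.mem_map_of_mem (f := Q.mkQ) h0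
    rw [Submodule.map_smul''] at h1
    exact Submodule.smul_mono le_rfl le_top h1
  haveI := ((H10Coh.isCoh_iff_finite_sections M).1 hM).2 V hV
  haveI : IsNoetherianRing Γ(X, V) := IsLocallyNoetherian.component_noetherian ⟨V, hV⟩
  obtain ⟨r, hr, hrQ⟩ :=
    Submodule.exists_sub_one_mem_and_smul_eq_zero_of_fg_of_le_smul I _ Module.Finite.fg_top hsp
  let K : Ideal Γ(X, V) := LinearMap.ker (LinearMap.toSpanSingleton Γ(X, V) Γ(M, V) m)
  have hK : K ≤ I • K := fun a ha => by
    have ham : a • m = 0 := ha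
    have hmem : a ∈ (⨅ n : ℕ, I ^ n • ⊤ : Submodule Γ(X, V) Γ(X, V)) := by
      refine Submodule.mem_iInf _ |>.2 fun n => ?_
      rcases n with _ | n
      · simp
      rw [smul_eq_mul, Ideal.mul_top, ← hker n, RingHom.mem_ker]
      refine ((hgen n).bijective le_rfl).1 ?_
      beta_reduce
      rw [H10Coh.mres_self, zero_smul, ← OmegaSh.pullSect_smul, ham, map_zero]
    obtain ⟨c, hc⟩ := (I.mem_iInf_smul_pow_eq_bot_iff a).1 hmem
    rw [← hc]
    exact Submodule.smul_mem_smul c.2 ha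
  obtain ⟨r', hr', hrK⟩ :=
    Submodule.exists_sub_one_mem_and_smul_eq_zero_of_fg_of_le_smul I K (IsNoetherian.noetherian _) hK
  have hone : ∀ s : Γ(X, V), s - 1 ∈ I → (lvlι t X 0).app V s = 1 := fun s hs => by
    have : s - 1 ∈ RingHom.ker ((lvlι t X 0).app V).hom := by rwa [hker 0, zero_add, pow_one]
    rw [RingHom.mem_ker, map_sub, map_one, sub_eq_zero] at this
    exact this
  refine ⟨X.basicOpen (r * r'), _, ?_, LeadGE.isGen_basicOpen_of_smul M hV m (r * r') (fun σ => ?_) fun a ha => ?_⟩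
  · have : x ∈ lvlι t X 0 ⁻¹ᵁ X.basicOpen (r * r') := by
      rw [Scheme.preimage_basicOpen, map_mul, hone r hr, hone r' hr', mul_one,
        Scheme.basicOpen_of_isUnit _ isUnit_one]
      exact hxV
    exact this
  · have h0 : r • σ ∈ Q :=
      (Submodule.Quotient.mk_eq_zero Q).1
        ((Submodule.Quotient.mk_smul Q r σ).trans (hrQ (Submodule.Quotient.mk σ) trivial))
    obtain ⟨a, ha⟩ := Submodule.mem_span_singleton.1 h0
    exact ⟨r' * a, by rw [mul_comm r r', mul_smul, ← ha, mul_smul]⟩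
  · have := hrK a ha
    rw [smul_eq_mul] at this
    rw [mul_assoc, this, mul_zero]

section System

variable {M}

theorem isFinLocFreeMod_pushSys [IsNoetherianRing A] (L : ∀ n, (lvl t X n).Modules)
    (hL : ∀ n, PicF.IsInvertible (L n))
    (φ : ∀ n, (Scheme.Modules.pullback (lvlTrans t X n)).obj (L (n + 1)) ≅ L n) (n : ℕ) :
    Formal2.IsFinLocFreeMod (Ideal.span {t}) (n + 1)
      ((H24FSch.pushSys (lvlTrans t X) (lvlι t X) (lvlTrans_ι t X) L φ).obj (op n)) :=
  isFinLocFreeMod_push t n (L n) (hL n)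

theorem isCohFormal_lvlSys [IsNoetherianRing A] (L : ∀ n, (lvl t X n).Modules) (hLc : ∀ n, Coh.IsCoh (L n))
    (φ : ∀ n, (Scheme.Modules.pullback (lvlTrans t X n)).obj (L (n + 1)) ≅ L n) :
    Formal.IsCohFormal (Ideal.span {t})
      (H24FSch.pushSys (lvlTrans t X) (lvlι t X) (lvlTrans_ι t X) L φ) :=
  LeadGE.isCohFormal_push (X := X) (J := Ideal.span {t}) (Xs := lvl t X)
    (i := lvlTrans t X) (p := lvlp t X) (isPullback_lvlTrans t X) (lvlι t X)
    (lvlTrans_ι t X) (fun n => (isPullback_lvl t X n).w) L hLc φ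

theorem ker_lvlι_map [IsNoetherianRing A] (n : ℕ) (W : X.Opens) (hW : IsAffineOpen W) :
    RingHom.ker ((lvlι t X n).app W).hom = (Ideal.span {t} ^ (n + 1)).map (H24Formal.scalA A W) :=
  (ker_lvlι t X n W hW).trans (span_pow_scalA t X n W).symm

theorem exists_isIso_lvlSys [IsNoetherianRing A] (L : ∀ n, (lvl t X n).Modules) (hLc : ∀ n, Coh.IsCoh (L n))
    (φ : ∀ n, (Scheme.Modules.pullback (lvlTrans t X n)).obj (L (n + 1)) ≅ L n) {N : X.Modules}
    (ψ : Formal.completion (Ideal.span {t}) N ≅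
      H24FSch.pushSys (lvlTrans t X) (lvlι t X) (lvlTrans_ι t X) L φ) (n : ℕ) :
    Nonempty ((Scheme.Modules.pullback (lvlι t X n)).obj N ≅ L n) := by
  obtain ⟨α, -⟩ := H24FSch.exists_isIso_of_completion_iso (X := X) (Xn := lvl t X) (Ideal.span {t})
    (lvlTrans t X) (lvlι t X) (lvlTrans_ι t X) ker_lvlι_map L hLc φ ψ
  exact ⟨α n⟩

/-- Algebraizing the formal module of a lift gives a module restricting to the given one. -/
theorem exists_algebraization_system_of [IsNoetherianRing A] [X.IsSeparated] (hreg : RegOn t X)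
    (hH : Subsingleton (H10Coh.HnM (Coh.structureModule (lvl t X 0)) 2 ⊤))
    (halg : ∀ G : ℕᵒᵖ ⥤ X.Modules, Formal.IsCohFormal (Ideal.span {t}) G →
      (∀ n : ℕ, Formal2.IsFinLocFreeMod (Ideal.span {t}) (n + 1) (G.obj (op n))) →
      ∃ F : X.Modules, Coh.IsCoh F ∧ Nonempty (Formal.completion (Ideal.span {t}) F ≅ G))
    (L₀ : (lvl t X 0).Modules) (hL₀ : PicF.IsInvertible L₀) :
    ∃ M : X.Modules, Coh.IsCoh M ∧
      (∀ k, PicF.IsInvertible ((Scheme.Modules.pullback (lvlι t X k)).obj M)) ∧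
      Nonempty ((Scheme.Modules.pullback (lvlι t X 0)).obj M ≅ L₀) := by
  obtain ⟨L, hL, ⟨ι₀⟩, hφ⟩ := exists_system hreg hH L₀ hL₀
  have hLc : ∀ n, Coh.IsCoh (L n) := fun n => by
    haveI : IsLocallyNoetherian (lvl t X n) := LocallyOfFiniteType.isLocallyNoetherian (lvlι t X n)
    exact H11Ample.isCoh_of_isInvertible (hL n)
  obtain ⟨φ⟩ : Nonempty (∀ n, (Scheme.Modules.pullback (lvlTrans t X n)).obj (L (n + 1)) ≅ L n) :=
    ⟨fun n => (hφ n).some⟩
  obtain ⟨M, hM, ⟨ψ⟩⟩ := halg _ (isCohFormal_lvlSys L hLc φ) (isFinLocFreeMod_pushSys L hL φ)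
  refine ⟨M, hM, fun k => ?_, ?_⟩
  · obtain ⟨α⟩ := exists_isIso_lvlSys L hLc φ ψ k
    exact H11Tilde.isInvertible_of_iso α.symm (hL k)
  · obtain ⟨α⟩ := exists_isIso_lvlSys L hLc φ ψ 0
    exact ⟨α ≪≫ ι₀⟩

end System

section Main

variable (A) [IsNoetherianRing A] (a : Ideal A) (f : A) [IsAdicComplete (Ideal.span {f}) A]

/-- A coherent module on the open whose restrictions are the given system. -/
theorem exists_algebraization_system (hnzd : f ∈ nonZeroDivisors A)
    (h₁ : Module.Finite A (LocCoh.H a 1 (A ⧸ Ideal.span {f})))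
    (h₂ : Module.Finite A (LocCoh.H a 2 (A ⧸ Ideal.span {f})))
    (h₃ : Subsingleton (LocCoh.H a 3 (A ⧸ Ideal.span {f})))
    (L₀ : (lvl f (LocCoh.puncturedOpen A a : Scheme.{u}) 0).Modules) (hL₀ : PicF.IsInvertible L₀) :
    ∃ M : (LocCoh.puncturedOpen A a : Scheme.{u}).Modules, Coh.IsCoh M ∧
      (∀ k, PicF.IsInvertible ((Scheme.Modules.pullback (lvlι f _ k)).obj M)) ∧
      Nonempty ((Scheme.Modules.pullback (lvlι f _ 0)).obj M ≅ L₀) := by
  let U : Scheme.{u} := (LocCoh.puncturedOpen A a : Scheme.{u})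
  haveI : U.IsSeparated := ⟨by
    rw [terminal.hom_ext (terminal.from U) ((LocCoh.puncturedOpen A a).ι ≫ terminal.from _)]
    infer_instance⟩
  exact exists_algebraization_system_of (X := U) (regOn_puncturedOpen A f a hnzd)
    (subsingleton_HnM_lvl_zero A f a hnzd h₃)
    (fun G hG hfree => H24Free.exists_algebraization A a f hnzd h₁ h₂ G hG hfree) L₀ hL₀

theorem exists_iso_lvl_zero :
    ∃ σ : (Formal2.specQuotMap A f ⁻¹ᵁ LocCoh.puncturedOpen A a : Scheme.{u}) ≅
        lvl f (LocCoh.puncturedOpen A a : Scheme.{u}) 0,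
      σ.hom ≫ lvlι f _ 0 = Formal2.specQuotMap A f ∣_ LocCoh.puncturedOpen A a := by
  let U := LocCoh.puncturedOpen A a
  let ρ : A ⧸ Ideal.span {f} ^ (0 + 1) ≃+* A ⧸ Ideal.span {f} := Ideal.quotEquivOfEq (by rw [zero_add, pow_one])
  let s := Spec.map (CommRingCat.ofHom ρ.toRingHom)
  haveI : IsIso (CommRingCat.ofHom ρ.toRingHom) := inferInstanceAs (IsIso ρ.toCommRingCatIso.hom)
  have hs : s ≫ CohB1.specQuot (Ideal.span {f}) 0 = Formal2.specQuotMap A f := by
    simp only [s, CohB1.specQuot, Formal2.specQuotMap, ← Spec.map_comp, ← CommRingCat.ofHom_comp]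
    rfl
  have hsq : IsPullback (Formal2.specQuotMap A f ∣_ U) ((Formal2.specQuotMap A f ⁻¹ᵁ U).ι ≫ s)
      ((U : Scheme.{u}) ↘ Spec (CommRingCat.of A)) (CohB1.specQuot (Ideal.span {f}) 0) := by
    refine (isPullback_morphismRestrict (Formal2.specQuotMap A f) U).of_iso (Iso.refl _) (Iso.refl _) (asIso s)
      (Iso.refl _) ?_ ?_ ?_ ?_
    · simp
    · simp
    · simp
    · simp [hs]
  exact ⟨hsq.isoPullback, hsq.isoPullback_hom_fst⟩

/-- An invertible module on `U ∩ V(f)` spreads to an open neighbourhood. -/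
theorem exists_nbhd_lift (hnzd : f ∈ nonZeroDivisors A)
    (h₁ : Module.Finite A (LocCoh.H a 1 (A ⧸ Ideal.span {f})))
    (h₂ : Module.Finite A (LocCoh.H a 2 (A ⧸ Ideal.span {f})))
    (h₃ : Subsingleton (LocCoh.H a 3 (A ⧸ Ideal.span {f})))
    (L₀ : (↑(Formal2.specQuotMap A f ⁻¹ᵁ LocCoh.puncturedOpen A a) : Scheme.{u}).Modules)
    (hL₀ : PicF.IsInvertible L₀) :
    ∃ (U' : (Spec (CommRingCat.of A)).Opens) (hU' : U' ≤ LocCoh.puncturedOpen A a)
      (h : Formal2.specQuotMap A f ⁻¹ᵁ LocCoh.puncturedOpen A a ≤ Formal2.specQuotMap A f ⁻¹ᵁ U')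
      (M : (LocCoh.puncturedOpen A a : Scheme.{u}).Modules), Coh.IsCoh M ∧
        PicF.IsInvertible ((Scheme.Modules.pullback ((Spec (CommRingCat.of A)).homOfLE hU')).obj M) ∧
        Nonempty ((Scheme.Modules.pullback ((Formal2.specQuotMap A f).resLE U' _ h)).obj
          ((Scheme.Modules.pullback ((Spec (CommRingCat.of A)).homOfLE hU')).obj M) ≅ L₀) := by
  let U := LocCoh.puncturedOpen A a
  obtain ⟨σ, hσ⟩ := exists_iso_lvl_zero A a f
  obtain ⟨M, hM, hinv, ⟨α⟩⟩ := exists_algebraization_system A a f hnzd h₁ h₂ h₃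
    ((Scheme.Modules.pullback σ.inv).obj L₀) (H11Ample.isInvertible_pullback _ hL₀)
  haveI : IsLocallyNoetherian (U : Scheme.{u}) := inferInstance
  choose O m hxO hgen using exists_gen_nhd M hM hinv
  let O' : (U : Scheme.{u}).Opens := ⨆ x, O x
  let U' := U.ι ''ᵁ O'
  have hU' : U' ≤ U := (U.ι.image_le_opensRange O').trans (le_of_eq U.opensRange_ι)
  have h : Formal2.specQuotMap A f ⁻¹ᵁ U ≤ Formal2.specQuotMap A f ⁻¹ᵁ U' := fun z hz => by
    let z' : (Formal2.specQuotMap A f ⁻¹ᵁ U : Scheme.{u}) := ⟨z, hz⟩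
    refine ⟨(Formal2.specQuotMap A f ∣_ U) z', ?_, ?_⟩
    · rw [← hσ, Scheme.Hom.comp_apply]
      exact Opens.mem_iSup.2 ⟨σ.hom z', hxO _⟩
    · exact congr($(morphismRestrict_ι (Formal2.specQuotMap A f) U) z')
  refine ⟨U', hU', h, M, hM, ?_, ⟨?_⟩⟩
  · let j := (Spec (CommRingCat.of A)).homOfLE hU'
    refine isInvertible_of_gen fun y => ?_
    have hy : j y ∈ O' := by
      obtain ⟨w, hw, hwy⟩ := y.2
      have : j y = w := U.ι.isOpenEmbedding.injective
        (((Scheme.Hom.comp_apply _ _ _).symm.trans (by rw [Scheme.homOfLE_ι]; rfl)).trans hwy.symm)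
      exact this ▸ hw
    obtain ⟨x, hx⟩ := Opens.mem_iSup.1 hy
    exact ⟨j ⁻¹ᵁ O x, _, hx, (hgen x).pullSect j⟩
  · have hcomp : (Formal2.specQuotMap A f).resLE U' _ h ≫ (Spec (CommRingCat.of A)).homOfLE hU' =
        σ.hom ≫ lvlι f (U : Scheme.{u}) 0 := by
      rw [Scheme.Hom.resLE_map, hσ, ← Scheme.Hom.resLE_eq_morphismRestrict]
    exact (Scheme.Modules.pullbackComp _ _).app M ≪≫ (Scheme.Modules.pullbackCongr hcomp).app M ≪≫
      ((Scheme.Modules.pullbackComp σ.hom _).app M).symm ≪≫ (Scheme.Modules.pullback σ.hom).mapIso α ≪≫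
      (Scheme.Modules.pullbackComp σ.hom σ.inv).app L₀ ≪≫
      (Scheme.Modules.pullbackCongr σ.hom_inv_id).app L₀ ≪≫ (Scheme.Modules.pullbackId _).app L₀

end Main

end Groth.Agent.H3CAlg.LocalPic
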