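import Groth.Agent.H23Para.StalkExt
import Groth.Agent.LeadGE.GenNhd
import Groth.Agent.H11Proj.VeryAmpleOn
import Groth.Prelude.Def_Formal2

/-!
# A generator near a point from a trivialization on the punctured local spectrum
-/

set_option autoImplicit false
set_option linter.style.haveILetI false

noncomputable section

universe u

open CategoryTheory CategoryTheory.Limits AlgebraicGeometry Opposite TopologicalSpace
open Groth.Agent.H11Tilde Groth.Agent.H23Para

namespace Groth.Agent.H3CAlg.LocalPic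

section Algebra

variable {R S : Type u} [CommRing R] [IsNoetherianRing R] [CommRing S] [Algebra R S] (p : Ideal R) [p.IsPrime]
  [IsLocalization.AtPrime S p]
  {N M : Type u} [AddCommGroup N] [Module R N] [Module.Finite R N] [AddCommGroup M] [Module R M] [Module S M]
  [IsScalarTower R S M] (ι : N →ₗ[R] M) [IsLocalizedModule p.primeCompl ι]

/-- A generator after inverting `a` in the localization spreads out. -/
theorem exists_smul_gen (a : R) (n₀ : N)
    (hsurj : ∀ x : M, ∃ (j : ℕ) (c : S), algebraMap R S a ^ j • x = c • ι n₀)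
    (hker : ∀ c : S, c • ι n₀ = 0 → ∃ j : ℕ, algebraMap R S a ^ j * c = 0) :
    ∃ v : R, v ∉ p ∧ ∃ j : ℕ, (∀ n : N, ∃ c : R, (v * a ^ j) • n = c • n₀) ∧
      ∀ c : R, c • n₀ = 0 → v * a ^ j * c = 0 := by
  classical
  have h1 : ∀ n : N, ∃ (v : R) (j : ℕ), v ∉ p ∧ ∃ c : R, (v * a ^ j) • n = c • n₀ := by
    intro n
    obtain ⟨j, c, hc⟩ := hsurj (ι n)
    obtain ⟨c₀, σ, rfl⟩ := IsLocalization.exists_mk'_eq p.primeCompl c
    have h : ι (((σ : R) * a ^ j) • n) = ι (c₀ • n₀) := by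
      rw [map_smul, map_smul, mul_smul, ← algebraMap_smul S (a ^ j), map_pow, hc, ← algebraMap_smul S (σ : R),
        smul_smul, IsLocalization.mk'_spec', algebraMap_smul]
    obtain ⟨w, hw⟩ := (IsLocalizedModule.eq_iff_exists p.primeCompl ι).1 h
    rw [Submonoid.smul_def, Submonoid.smul_def, smul_smul, smul_smul] at hw
    exact ⟨(w : R) * (σ : R), j, ‹p.IsPrime›.mul_notMem w.2 σ.2, (w : R) * c₀, by rw [mul_assoc]; exact hw⟩
  have h2 : ∀ c : R, c • n₀ = 0 → ∃ (v : R) (j : ℕ), v ∉ p ∧ v * a ^ j * c = 0 := by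
    intro c hc
    obtain ⟨j, hj⟩ := hker (algebraMap R S c) (by rw [algebraMap_smul, ← map_smul, hc, map_zero])
    rw [← map_pow, ← map_mul] at hj
    obtain ⟨w, hw⟩ := (IsLocalization.map_eq_zero_iff p.primeCompl S _).1 hj
    exact ⟨w, j, w.2, by rw [mul_assoc]; exact hw⟩
  choose v₁ j₁ hv₁ c₁ hc₁ using h1
  choose! v₂ j₂ hv₂ hc₂ using h2
  obtain ⟨G, hG⟩ := (Module.Finite.fg_top : (⊤ : Submodule R N).FG)
  obtain ⟨G', hG'⟩ := IsNoetherian.noetherian (LinearMap.ker (LinearMap.toSpanSingleton R N n₀))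
  have hG'' : ∀ c ∈ G', c • n₀ = 0 := fun c hc => (hG' ▸ Submodule.subset_span hc :)
  let v := (∏ n ∈ G, v₁ n) * ∏ c ∈ G', v₂ c
  let j := (∑ n ∈ G, j₁ n) + ∑ c ∈ G', j₂ c
  refine ⟨v, ‹p.IsPrime›.mul_notMem (fun h => ?_) (fun h => ?_), j, fun n => ?_, fun c hc => ?_⟩
  · obtain ⟨n, -, hn⟩ := Ideal.IsPrime.prod_mem_iff.1 h
    exact hv₁ n hn
  · obtain ⟨c, hc, hn⟩ := Ideal.IsPrime.prod_mem_iff.1 h
    exact hv₂ c (hG'' c hc) hn
  · have hn : n ∈ Submodule.span R (G : Set N) := hG ▸ Submodule.mem_top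
    let Q : Submodule R N := (Submodule.span R {n₀}).comap ((v * a ^ j) • LinearMap.id)
    have : Submodule.span R (G : Set N) ≤ Q := Submodule.span_le.2 fun g hg => by
      show (v * a ^ j) • g ∈ Submodule.span R {n₀}
      obtain ⟨q, hq⟩ : v₁ g * a ^ j₁ g ∣ v * a ^ j :=
        mul_dvd_mul ((Finset.dvd_prod_of_mem v₁ hg).trans (dvd_mul_right _ _))
          (pow_dvd_pow a ((Finset.single_le_sum (fun _ _ => Nat.zero_le _) hg).trans (Nat.le_add_right _ _)))
      rw [hq, mul_comm, mul_smul, hc₁ g, smul_smul]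
      exact Submodule.mem_span_singleton.2 ⟨_, rfl⟩
    obtain ⟨c, hc⟩ := Submodule.mem_span_singleton.1 (this hn)
    exact ⟨c, hc.symm⟩
  · have hc' : c ∈ Submodule.span R (G' : Set R) := by
      rw [hG']
      exact hc
    let Q : Submodule R R := LinearMap.ker ((v * a ^ j) • (LinearMap.id : R →ₗ[R] R))
    have : Submodule.span R (G' : Set R) ≤ Q := Submodule.span_le.2 fun g hg => by
      show (v * a ^ j) • g = 0
      obtain ⟨q, hq⟩ : v₂ g * a ^ j₂ g ∣ v * a ^ j :=
        mul_dvd_mul ((Finset.dvd_prod_of_mem v₂ hg).trans (dvd_mul_left _ _))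
          (pow_dvd_pow a ((Finset.single_le_sum (fun _ _ => Nat.zero_le _) hg).trans (Nat.le_add_left _ _)))
      rw [hq, smul_eq_mul, mul_right_comm, hc₂ g (hG'' g hg), zero_mul]
    exact this hc'

end Algebra

variable {R S : CommRingCat.{u}} [IsNoetherianRing R] [IsLocalRing S] [IsNoetherianRing S]
  (φ : R ⟶ S) (p : PrimeSpectrum R) (hp : PrimeSpectrum.comap φ.hom (IsLocalRing.closedPoint S) = p)
  (hloc : letI := φ.hom.toAlgebra; IsLocalization.AtPrime S p.asIdeal)

include hp hloc in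
/-- Near `p`, a module that is invertible off the closure of `p` and trivial on the punctured
spectrum of the local ring at `p` has a generator off the closure of `p`. -/
theorem exists_gen_punctured_nhd (hpic : Formal2.PicTrivial (FEt.puncturedSpec S : Scheme.{u}))
    {W : (Spec R).Opens} (hW : ∀ q : PrimeSpectrum R, q.asIdeal ≤ p.asIdeal → q ≠ p → (q : (Spec R : Scheme.{u})) ∈ W)
    (L : (W : Scheme.{u}).Modules) (hL : PicF.IsInvertible L) :
    ∃ h : R, h ∉ p.asIdeal ∧ ∃ (O : (Spec R).Opens) (e : Γ(L, W.ι ⁻¹ᵁ O)),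
      (∀ x : PrimeSpectrum R, h ∉ x.asIdeal → ¬ p.asIdeal ≤ x.asIdeal → (x : (Spec R : Scheme.{u})) ∈ O) ∧
      H11Tilde.IsGen L e := by
  letI : Algebra R S := φ.hom.toAlgebra
  haveI : IsLocalization.AtPrime S p.asIdeal := hloc
  let Pu : (Spec S).Opens := FEt.puncturedSpec S
  let f : Spec S ⟶ Spec R := Spec.map φ
  obtain ⟨K, hK, ⟨eK⟩, -⟩ := Groth.Agent.H29Ref.exists_coh_extension W L (H11Ample.isCoh_of_isInvertible hL)
  haveI : K.IsQuasicoherent := hK.1
  let N : ModuleCat R := (modulesSpecToSheaf.obj K).presheaf.obj (op ⊤)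
  haveI : Module.Finite Γ(Spec R, ⊤) Γ(K, ⊤) := H10Coh.finite_sections K hK.2 (isAffineOpen_top _)
  haveI : Module.Finite R N := H10Coh.finite_ΓSpec K
  let M : ModuleCat S := (ModuleCat.extendScalars φ.hom).obj N
  let P : (Spec S).Modules := tilde M
  let ePull : (Scheme.Modules.pullback f).obj K ≅ P :=
    (Scheme.Modules.pullback f).mapIso (@asIso _ _ _ _ K.fromTildeΓ
      (Scheme.Modules.isIso_fromTildeΓ_of_isQuasicoherent (R := R) K)).symm ≪≫
      (H17.OmegaAffine.pullbackTildeIso φ).app N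
  let ι : N →ₗ[R] TensorProduct R S N := TensorProduct.mk R S N 1
  haveI hι : IsLocalizedModule p.asIdeal.primeCompl ι :=
    (isLocalizedModule_iff_isBaseChange p.asIdeal.primeCompl S ι).mpr (TensorProduct.isBaseChange R N S)
  -- a generator on the punctured spectrum
  have hPW : Pu ≤ f ⁻¹ᵁ W := fun z hz => by
    refine hW (PrimeSpectrum.comap φ.hom z) ?_ fun h => hz ?_
    · rw [← hp]
      exact Ideal.comap_mono (IsLocalRing.le_maximalIdeal z.2.ne_top)
    · have h1 : z.asIdeal.under R = p.asIdeal := congrArg PrimeSpectrum.asIdeal h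
      have h2 : (IsLocalRing.closedPoint S).asIdeal.under R = p.asIdeal := congrArg PrimeSpectrum.asIdeal hp
      apply PrimeSpectrum.ext
      rw [← IsLocalization.map_under p.asIdeal.primeCompl S z.asIdeal, h1, ← h2,
        IsLocalization.map_under p.asIdeal.primeCompl S]
  let eP0 : P.restrict (f ⁻¹ᵁ W).ι ≅ (Scheme.Modules.pullback (f ∣_ W)).obj L :=
    (Scheme.Modules.restrictFunctor (f ⁻¹ᵁ W).ι).mapIso ePull.symm ≪≫
      (H16Derived.KFlat.Stalk.pullbackRestrictIso f W).app K ≪≫ (Scheme.Modules.pullback (f ∣_ W)).mapIso eK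
  let a : (Pu : Scheme.{u}) ⟶ (f ⁻¹ᵁ W : Scheme.{u}) := (Spec S).homOfLE hPW
  let eP1 := restrictCompIso a (f ⁻¹ᵁ W).ι Pu.ι (Scheme.homOfLE_ι _ _) P ≪≫ (Scheme.Modules.restrictFunctor a).mapIso eP0
  obtain ⟨eP⟩ := hpic _ (H11Tilde.isInvertible_of_iso eP1.symm
    (isInvertible_restrict a (H11Ample.isInvertible_pullback (f ∣_ W) hL)))
  let s₁ : Γ(P.restrict Pu.ι, ⊤) := eP.inv.app ⊤ (H11Ample.one ⊤)
  have hs₁ : H11Tilde.IsGen (P.restrict Pu.ι) s₁ := IsGen.map_iso eP.symm (H11Ample.isGen_one ⊤)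
  have hs := H11Proj.isGen_toImg Pu hs₁
  let s := H11Ample.toImg Pu P s₁
  have hPu : Pu ≤ Pu.ι ''ᵁ ⊤ := Pu.ι_image_top.ge
  -- elements of `p`
  classical
  obtain ⟨G, hG⟩ := IsNoetherian.noetherian p.asIdeal
  let g : R → S := algebraMap R S
  have hgm : ∀ b ∈ G, g b ∈ IsLocalRing.maximalIdeal S := fun b hb => by
    have h2 : (IsLocalRing.closedPoint S).asIdeal.comap φ.hom = p.asIdeal := congrArg PrimeSpectrum.asIdeal hp
    have : b ∈ (IsLocalRing.closedPoint S).asIdeal.comap φ.hom := h2.ge (hG.le (Submodule.subset_span hb))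
    exact this
  have hle : ∀ b ∈ G, Db (R := S) (g b) ≤ Pu.ι ''ᵁ ⊤ := fun b hb => by
    have h0 : Db (R := S) (g b) ≤ Pu := fun z hz hze => hz ((hze : z = _) ▸ hgm b hb)
    exact h0.trans hPu
  let top : TensorProduct R S N → Γ(P, ⊤) := fun m => (tilde.toOpen M ⊤).hom m
  have htop : ∀ (r : S) m, top (r • m) = r • top m := fun r m => map_smul (tilde.toOpen M ⊤).hom r m
  have htop0 : top 0 = 0 := map_zero (tilde.toOpen M ⊤).hom
  have htopbij : Function.Bijective top := ConcreteCategory.bijective_of_isIso (tilde.isoTop M).hom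
  let resT : ∀ c : S, Γ(P, ⊤) → Γ(P, Db (R := S) c) := fun c =>
    P.presheaf.map (homOfLE (le_top : Db (R := S) c ≤ ⊤)).op
  -- numerators
  have h1 : ∀ b : (G : Set R), ∃ (k : ℕ) (m : TensorProduct R S N),
      resT (g b) (top m) = g b ^ k • P.presheaf.map (homOfLE (hle b b.2)).op s := fun b => by
    obtain ⟨k, t, ht⟩ := exists_pow_smul_eq_map (L := P) (g b) (P.presheaf.map (homOfLE (hle b b.2)).op s)
    obtain ⟨m, rfl⟩ := htopbij.2 t
    exact ⟨k, m, ht⟩
  choose k₁ m₁ hm₁ using h1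
  let k := Finset.univ.sum k₁
  obtain ⟨m₂, hm₂⟩ : ∃ m₂ : ↥(G : Set R) → TensorProduct R S N, ∀ b : ↥(G : Set R),
      resT (g b) (top (m₂ b)) = g b ^ k • P.presheaf.map (homOfLE (hle b b.2)).op s := by
    refine ⟨fun b => g b ^ (k - k₁ b) • m₁ b, fun b => ?_⟩
    show P.presheaf.map _ (top (g b ^ (k - k₁ b) • m₁ b)) = _
    rw [htop, res_smul_Spec]
    show g b ^ (k - k₁ b) • resT (g b) (top (m₁ b)) = _
    rw [hm₁, smul_smul, ← pow_add, Nat.sub_add_cancel (Finset.single_le_sum (fun _ _ => Nat.zero_le _)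
      (Finset.mem_univ b))]
  have h2 : ∀ b c : (G : Set R), ∃ l : ℕ, (g b * g c) ^ l • (g c ^ k • m₂ b - g b ^ k • m₂ c) = 0 := fun b c => by
    have hbc : Db (R := S) (g b * g c) ≤ Db (g b) ⊓ Db (g c) := (PrimeSpectrum.basicOpen_mul _ _).le
    let T : TensorProduct R S N → Γ(P, Db (R := S) (g b * g c)) := fun m => resT _ (top m)
    have hT : ∀ (d : (G : Set R)) (hd : Db (R := S) (g b * g c) ≤ Db (g d)), T (m₂ d) =
        g d ^ k • P.presheaf.map (homOfLE (hd.trans (hle d d.2))).op s := fun d hd => by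
      have h := congrArg (P.presheaf.map (homOfLE hd).op) (hm₂ d)
      rw [res_smul_Spec, H10Coh.mres_mres, H10Coh.mres_mres] at h
      exact h
    obtain ⟨l, hl⟩ := exists_pow_smul_eq_zero_of_res (L := P) (g b * g c)
      (top (g c ^ k • m₂ b - g b ^ k • m₂ c)) (by
        show P.presheaf.map _ ((tilde.toOpen M ⊤).hom (g c ^ k • m₂ b - g b ^ k • m₂ c)) = 0
        erw [map_sub, map_sub]
        show P.presheaf.map _ (top (g c ^ k • m₂ b)) - P.presheaf.map _ (top (g b ^ k • m₂ c)) = 0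
        rw [sub_eq_zero, htop (g c ^ k), htop (g b ^ k), res_smul_Spec, res_smul_Spec]
        show g c ^ k • T (m₂ b) = g b ^ k • T (m₂ c)
        rw [hT b (hbc.trans inf_le_left), hT c (hbc.trans inf_le_right), smul_smul, smul_smul, mul_comm (g c ^ k)])
    exact ⟨l, htopbij.1 ((htop _ _).trans (hl.trans htop0.symm))⟩
  choose l₁ hl₁ using h2
  let l := Finset.univ.sum fun x : ↥(G : Set R) × ↥(G : Set R) => l₁ x.1 x.2
  let K' := k + l
  obtain ⟨m₃, hm₃, hm₃d⟩ : ∃ m₃ : ↥(G : Set R) → TensorProduct R S N,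
      (∀ b : ↥(G : Set R), resT (g b) (top (m₃ b)) = g b ^ K' • P.presheaf.map (homOfLE (hle b b.2)).op s) ∧
      ∀ b : ↥(G : Set R), m₃ b = g b ^ l • m₂ b := by
    refine ⟨fun b => g b ^ l • m₂ b, fun b => ?_, fun _ => rfl⟩
    show P.presheaf.map _ (top (g b ^ l • m₂ b)) = _
    rw [htop, res_smul_Spec]
    show g b ^ l • resT (g b) (top (m₂ b)) = _
    rw [hm₂, smul_smul, ← pow_add, add_comm]
  have hcomp₃ : ∀ b c : ↥(G : Set R), g c ^ K' • m₃ b = g b ^ K' • m₃ c := fun b c => by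
    have hll : l₁ b c ≤ l := Finset.single_le_sum (f := fun x : ↥(G : Set R) × ↥(G : Set R) => l₁ x.1 x.2)
      (fun _ _ => Nat.zero_le _) (Finset.mem_univ (b, c))
    have h := congrArg ((g b * g c) ^ (l - l₁ b c) • ·) (hl₁ b c)
    beta_reduce at h
    rw [smul_zero, smul_smul, ← pow_add, Nat.sub_add_cancel hll, smul_sub, sub_eq_zero, smul_smul, smul_smul] at h
    rw [hm₃d, hm₃d]
    show g c ^ (k + l) • g b ^ l • m₂ b = g b ^ (k + l) • g c ^ l • m₂ c
    rw [smul_smul, smul_smul]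
    rw [show g c ^ (k + l) * g b ^ l = (g b * g c) ^ l * g c ^ k by ring,
      show g b ^ (k + l) * g c ^ l = (g b * g c) ^ l * g b ^ k by ring]
    exact h
  -- lifts to `R`
  choose x₁ hx₁ using fun b => IsLocalizedModule.surj p.asIdeal.primeCompl ι (m₃ b)
  let u₀ : R := ∏ b : (G : Set R), ((x₁ b).2 : R)
  have hu₀ : u₀ ∉ p.asIdeal := fun h => by
    obtain ⟨b, -, hb⟩ := Ideal.IsPrime.prod_mem_iff.1 h
    exact (x₁ b).2.2 hb
  obtain ⟨y₁, hy₁⟩ : ∃ y₁ : ↥(G : Set R) → N, ∀ b : ↥(G : Set R), ι (y₁ b) = algebraMap R S u₀ • m₃ b := by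
    refine ⟨fun b => (∏ c ∈ Finset.univ.erase b, ((x₁ c).2 : R)) • (x₁ b).1, fun b => ?_⟩
    beta_reduce
    rw [map_smul, ← hx₁ b, Submonoid.smul_def, smul_smul, algebraMap_smul,
      Finset.prod_erase_mul _ _ (Finset.mem_univ b)]
  have h3 : ∀ x : ↥(G : Set R) × ↥(G : Set R), ∃ w : p.asIdeal.primeCompl,
      w • ((x.2 : R) ^ K' • y₁ x.1) = w • ((x.1 : R) ^ K' • y₁ x.2) := fun x =>
    (IsLocalizedModule.eq_iff_exists p.asIdeal.primeCompl ι).1 (by
      rw [map_smul, map_smul, hy₁, hy₁, ← algebraMap_smul S ((x.2 : R) ^ K'), ← algebraMap_smul S ((x.1 : R) ^ K'),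
        smul_comm, map_pow, hcomp₃, smul_comm, ← map_pow])
  choose w₁ hw₁ using h3
  let w₀ : R := ∏ x, (w₁ x : R)
  have hw₀ : w₀ ∉ p.asIdeal := fun h => by
    obtain ⟨x, -, hx⟩ := Ideal.IsPrime.prod_mem_iff.1 h
    exact (w₁ x).2 hx
  let u := w₀ * u₀
  have hu : u ∉ p.asIdeal := p.2.mul_notMem hw₀ hu₀
  obtain ⟨n, hn, hnw⟩ : ∃ n : ↥(G : Set R) → N, (∀ b : ↥(G : Set R), ι (n b) = algebraMap R S u • m₃ b) ∧
      ∀ b, n b = w₀ • y₁ b := by
    refine ⟨fun b => w₀ • y₁ b, fun b => ?_, fun _ => rfl⟩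
    beta_reduce
    rw [map_smul, hy₁, map_mul, mul_smul, algebraMap_smul, algebraMap_smul]
  have hncomp : ∀ b c : (G : Set R), (c : R) ^ K' • n b = (b : R) ^ K' • n c := fun b c => by
    obtain ⟨q, hq⟩ : (w₁ (b, c) : R) ∣ w₀ := Finset.dvd_prod_of_mem _ (Finset.mem_univ _)
    have h := congrArg (q • ·) (hw₁ (b, c))
    beta_reduce at h
    rw [Submonoid.smul_def, Submonoid.smul_def, smul_smul q, smul_smul q, mul_comm q, ← hq, smul_comm w₀,
      smul_comm w₀, ← hnw, ← hnw] at h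
    exact h
  -- each numerator generates after inverting its element
  have h4 : ∀ b : (G : Set R), ∃ v : R, v ∉ p.asIdeal ∧ ∃ j : ℕ,
      (∀ x : N, ∃ c : R, (v * (b : R) ^ j) • x = c • n b) ∧ ∀ c : R, c • n b = 0 → v * (b : R) ^ j * c = 0 := by
    intro b
    have hu' : IsUnit (algebraMap R S u) := IsLocalization.map_units S (⟨u, hu⟩ : p.asIdeal.primeCompl)
    obtain ⟨uu, huu⟩ := hu'
    have hgen : H11Tilde.IsGen P (resT (g b) (top (m₃ b))) := by
      rw [hm₃, smul_eq_cst_smul]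
      exact H11Ample.isGen_res hs (hle b b.2) (by rw [map_pow]; exact (isUnit_cst le_rfl).pow _)
    have hres : ∀ (c : S) m, resT (g b) (top (c • m)) = cst S (Db (R := S) (g b)) c • resT (g b) (top m) :=
      fun c m => by
        show P.presheaf.map _ (top (c • m)) = _
        rw [htop, res_smul_Spec]
        rfl
    refine exists_smul_gen (S := S) p.asIdeal ι (b : R) (n b) (fun x => ?_) (fun c hc => ?_)
    · obtain ⟨r, hr⟩ := (hgen.bijective le_rfl).2 (resT (g b) (top x))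
      beta_reduce at hr
      rw [H10Coh.mres_self] at hr
      obtain ⟨i, c, hc⟩ := exists_frac (g b) r
      have h0 : resT (g b) (top (g b ^ i • x - c • m₃ b)) = 0 := by
        show P.presheaf.map _ ((tilde.toOpen M ⊤).hom (g b ^ i • x - c • m₃ b)) = 0
        erw [map_sub, map_sub]
        show resT (g b) (top (g b ^ i • x)) - resT (g b) (top (c • m₃ b)) = 0
        rw [hres, hres, sub_eq_zero, ← hr, smul_smul, map_pow, hc]
      obtain ⟨i', hi'⟩ := exists_pow_smul_eq_zero_of_res (L := P) (g b) _ h0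
      have h5 : g b ^ i' • (g b ^ i • x - c • m₃ b) = 0 := htopbij.1 ((htop _ _).trans (hi'.trans htop0.symm))
      rw [smul_sub, sub_eq_zero, smul_smul, ← pow_add, smul_smul] at h5
      refine ⟨i' + i, g b ^ i' * c * ↑uu⁻¹, h5.trans ?_⟩
      rw [hn, smul_smul, mul_assoc, ← huu, Units.inv_mul, mul_one]
    · rw [hn, smul_smul] at hc
      have h6 : cst S (Db (R := S) (g b)) (c * algebraMap R S u) = 0 := by
        refine (hgen.bijective le_rfl).1 ?_
        beta_reduce
        rw [H10Coh.mres_self, ← hres, zero_smul, hc, htop0]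
        exact map_zero _
      obtain ⟨j, hj⟩ := exists_pow_mul_eq_zero_of_cst (g b) _ h6
      refine ⟨j, ?_⟩
      rw [← mul_assoc, ← huu] at hj
      exact (Units.mul_left_eq_zero uu).1 hj
  choose v hv j hj hjk using h4
  let h := u * ∏ b : (G : Set R), v b
  refine ⟨h, p.2.mul_notMem hu fun hh => ?_, ?_⟩
  · obtain ⟨b, -, hb⟩ := Ideal.IsPrime.prod_mem_iff.1 hh
    exact hv b hb
  let V : ↥(G : Set R) → (Spec R).Opens := fun b => Db (R := R) (h * b)
  let O : (Spec R).Opens := ⨆ b, V b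
  have hVb : ∀ b, V b ≤ Db (R := R) (b : R) := fun b z hz hbz => hz (z.asIdeal.mul_mem_left _ hbz)
  have hbo : ∀ b, V b ≤ (Spec R).basicOpen (cst R ⊤ (v b * (b : R) ^ j b)) := fun b => by
    have hb : (Spec R).basicOpen (cst R ⊤ (v b * (b : R) ^ j b)) = Db (R := R) (v b * (b : R) ^ j b) := by
      show (Spec R).basicOpen ((Spec R).presheaf.map (homOfLE le_top).op ((Scheme.ΓSpecIso R).inv _)) = _
      rw [Scheme.basicOpen_res, top_inf_eq]
      exact basicOpen_eq_of_affine _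
    rw [hb]
    intro z hz hmem
    rcases z.2.mem_or_mem hmem with h' | h'
    · exact hz (z.asIdeal.mul_mem_right _ (z.asIdeal.mul_mem_left u
        (Ideal.mem_of_dvd _ (Finset.dvd_prod_of_mem v (Finset.mem_univ b)) h')))
    · exact hVb b hz (z.2.mem_of_pow_mem _ h')
  have hgenN : ∀ b, H11Tilde.IsGen K (K.presheaf.map (homOfLE (le_top : V b ≤ ⊤)).op (show Γ(K, ⊤) from n b)) := by
    intro b
    have h0 := LeadGE.isGen_basicOpen_of_smul K (isAffineOpen_top (Spec R)) (show Γ(K, ⊤) from n b)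
      (cst R ⊤ (v b * (b : R) ^ j b)) (fun σ => ?_) (fun c hc => ?_)
    · have h1 := h0.res (hbo b)
      rw [H10Coh.mres_mres] at h1
      exact h1
    · obtain ⟨c, hc⟩ := hj b σ
      exact ⟨cst R ⊤ c, hc⟩
    · obtain ⟨c, rfl⟩ : ∃ c', cst R ⊤ c' = c := ⟨(Scheme.ΓSpecIso R).hom c,
        (congr($((Spec R).presheaf.map_id (op ⊤)) _)).trans (congr($((Scheme.ΓSpecIso R).hom_inv_id) c))⟩
      rw [← map_mul, hjk b c hc, map_zero]
  have hunit : ∀ b, IsUnit (cst R (V b) ((b : R) ^ K')) := fun b => by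
    rw [map_pow]
    exact (isUnit_cst (hVb b)).pow _
  choose c hc using fun b => (hunit b).exists_left_inv
  let z : ∀ b, Γ(K, V b) := fun b =>
    c b • K.presheaf.map (homOfLE (le_top : V b ≤ ⊤)).op (show Γ(K, ⊤) from n b)
  have hz : ∀ b, H11Tilde.IsGen K (z b) := fun b => by
    have := H11Ample.isGen_res (hgenN b) le_rfl (IsUnit.of_mul_eq_one _ (hc b))
    rw [H10Coh.mres_self] at this
    exact this
  have hcompat : TopCat.Presheaf.IsCompatible K.presheaf V z := fun b b' => by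
    let T := V b ⊓ V b'
    let nT : ↥(G : Set R) → Γ(K, T) := fun d => K.presheaf.map (homOfLE (le_top : T ≤ ⊤)).op (show Γ(K, ⊤) from n d)
    show K.presheaf.map (homOfLE inf_le_left).op (z b) = K.presheaf.map (homOfLE inf_le_right).op (z b')
    rw [Scheme.Modules.map_smul, Scheme.Modules.map_smul, H10Coh.mres_mres, H10Coh.mres_mres]
    have e1 : ∀ (d : (G : Set R)) (hd : T ≤ V d),
        (Spec R).presheaf.map (homOfLE hd).op (c d) * cst R T ((d : R) ^ K') = 1 := fun d hd => by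
      rw [← res_smul_cst hd, ← map_mul, hc, map_one]
    have e2 : cst R T ((b' : R) ^ K') • nT b = cst R T ((b : R) ^ K') • nT b' := by
      have h0 : ((b' : R) ^ K') • (show Γ(K, ⊤) from n b) = ((b : R) ^ K') • (show Γ(K, ⊤) from n b') := hncomp b b'
      have h := congrArg (K.presheaf.map (homOfLE (le_top : T ≤ ⊤)).op) h0
      rw [res_smul_Spec, res_smul_Spec] at h
      exact h
    set cb := (Spec R).presheaf.map (homOfLE (inf_le_left : T ≤ V b)).op (c b)
    set cb' := (Spec R).presheaf.map (homOfLE (inf_le_right : T ≤ V b')).op (c b')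
    show cb • nT b = cb' • nT b'
    calc cb • nT b = (cb * (cb' * cst R T ((b' : R) ^ K'))) • nT b := by rw [e1 b' inf_le_right, mul_one]
      _ = (cb * cb') • cst R T ((b' : R) ^ K') • nT b := by rw [smul_smul, mul_assoc]
      _ = (cb * cb') • cst R T ((b : R) ^ K') • nT b' := by rw [e2]
      _ = (cb' * (cb * cst R T ((b : R) ^ K'))) • nT b' := by rw [smul_smul]; congr 1; ring
      _ = cb' • nT b' := by rw [e1 b inf_le_left, mul_one]
  obtain ⟨σ, hσ, -⟩ := TopCat.Sheaf.existsUnique_gluing' (⟨K.presheaf, K.isSheaf⟩ : TopCat.Sheaf AddCommGrpCat _) V O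
    (fun b => homOfLE (le_iSup V b)) le_rfl z hcompat
  have hσgen : H11Tilde.IsGen K σ := fun y hy => by
    obtain ⟨b, hb⟩ := Opens.mem_iSup.1 hy
    have h0 := hz b y hb
    have e : K.presheaf.germ O y hy σ = K.presheaf.germ (V b) y hb (z b) := by
      rw [← hσ b]
      exact (TopCat.Presheaf.germ_res_apply K.presheaf _ y hb σ).symm
    rw [e]
    exact h0
  refine ⟨O, _, fun x hxh hxp => ?_,
    IsGen.map_iso eK (H11Ample.isGen_restrict W hσgen (W.ι.image_preimage_le O))⟩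
  obtain ⟨b, hb, hbx⟩ : ∃ b ∈ G, b ∉ x.asIdeal := by
    by_contra hcon
    push Not at hcon
    exact hxp (hG ▸ Ideal.span_le.2 hcon)
  refine Opens.mem_iSup.2 ⟨⟨b, hb⟩, fun hmem => ?_⟩
  rcases x.2.mem_or_mem hmem with h' | h'
  · exact hxh h'
  · exact hbx h'

end Groth.Agent.H3CAlg.LocalPic
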