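import Groth.Agent.H3CAlg.LocalPic.Algebraize
import Groth.Agent.H3CAlg.LocalPic.PunctGen
import Groth.Agent.H7Flat.LineCocycle

/-!
# Extending invertible modules over the closed points outside a neighbourhood of a hypersurface
-/

set_option autoImplicit false
set_option linter.style.haveILetI false

noncomputable section

universe u

open CategoryTheory CategoryTheory.Limits AlgebraicGeometry TopologicalSpace Opposite
open Groth.Agent.H11Tilde Groth.Agent.H11Ample Groth.Agent.H7Flat.LineCocycle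

attribute [-instance] CategoryTheory.catToReflQuiver

namespace Groth.Agent.H3CAlg.LocalPic

section Glue

variable {X Y : Scheme.{u}} (j : Y ⟶ X) [IsOpenImmersion j] (N : Y.Modules)

theorem app_bijective {V : X.Opens} (hV : V ≤ j.opensRange) : Function.Bijective (j.app V) := by
  haveI := j.isIso_app V hV
  exact ConcreteCategory.bijective_of_isIso (j.app V)

/-- Generators on a family of opens meeting pairwise inside an open subscheme glue to an invertible module. -/
theorem exists_extension {J : Type u} (V : J → X.Opens) (hV : ∀ x, ∃ a, x ∈ V a)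
    (hVV : ∀ a b, a ≠ b → V a ⊓ V b ≤ j.opensRange)
    (e : ∀ a, Γ(N, j ⁻¹ᵁ V a)) (he : ∀ a, IsGen N (e a)) :
    ∃ L : X.Modules, PicF.IsInvertible L ∧ Nonempty ((Scheme.Modules.pullback j).obj L ≅ N) := by
  classical
  let r : ∀ (a : J) {T : X.Opens}, T ≤ V a → Γ(N, j ⁻¹ᵁ T) := fun a T hT =>
    N.presheaf.map (homOfLE (j.preimage_mono hT)).op (e a)
  have hrr : ∀ (a : J) {T T' : X.Opens} (hT : T ≤ V a) (h : T' ≤ T),
      N.presheaf.map (homOfLE (j.preimage_mono h)).op (r a hT) = r a (h.trans hT) := fun a T T' hT h =>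
    H10Coh.mres_mres N _ _ _
  have hex : ∀ a b : J, ∃ G : Γ(X, V a ⊓ V b), (a = b → G = 1) ∧
      j.app (V a ⊓ V b) G • r a inf_le_left = r b inf_le_right := fun a b => by
    by_cases h : a = b
    · subst h
      exact ⟨1, fun _ => rfl, by rw [map_one, one_smul]⟩
    · obtain ⟨c, hc⟩ := ((he a).bijective (j.preimage_mono (inf_le_left : V a ⊓ V b ≤ V a))).2 (r b inf_le_right)
      obtain ⟨G, rfl⟩ := (app_bijective j (hVV a b h)).2 c
      exact ⟨G, fun h' => absurd h' h, hc⟩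
  choose G hG1 hG using hex
  have hGT : ∀ a b (T : X.Opens) (ha : T ≤ V a) (hb : T ≤ V b),
      j.app T (rr (le_inf ha hb) (G a b)) • r a ha = r b hb := fun a b T ha hb => by
    have h := congrArg (N.presheaf.map (homOfLE (j.preimage_mono (le_inf ha hb : T ≤ V a ⊓ V b))).op) (hG a b)
    rw [N.map_smul, H10Coh.mres_mres, H10Coh.mres_mres] at h
    rw [H26Def.LineLift.app_rr]
    exact h
  have hcoc : ∀ a b c (T : X.Opens) (ha : T ≤ V a) (hb : T ≤ V b) (hc : T ≤ V c),
      rr (le_inf ha hb) (G a b) * rr (le_inf hb hc) (G b c) = rr (le_inf ha hc) (G a c) := by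
    intro a b c T ha hb hc
    by_cases hT : T ≤ j.opensRange
    · refine (app_bijective j hT).1 (((he a).bijective (j.preimage_mono ha)).1 ?_)
      show j.app T (_ * _) • r a ha = j.app T _ • r a ha
      rw [map_mul, mul_comm, mul_smul, hGT a b T ha hb, hGT b c T hb hc, hGT a c T ha hc]
    · have h1 : a = b := by_contra fun h => hT ((le_inf ha hb).trans (hVV a b h))
      have h2 : b = c := by_contra fun h => hT ((le_inf hb hc).trans (hVV b c h))
      subst h1
      subst h2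
      rw [hG1 a a rfl, map_one, one_mul]
  let D : Data X :=
    { J := J
      V := V
      g := G
      isUnit := fun a b => by
        refine IsUnit.of_mul_eq_one (rr (le_inf inf_le_right inf_le_left : V a ⊓ V b ≤ V b ⊓ V a) (G b a)) ?_
        have h := hcoc a b a (V a ⊓ V b) inf_le_left inf_le_right inf_le_left
        rw [rr_self] at h
        rw [h, hG1 a a rfl, map_one]
      cocycle := hcoc
      cover := hV }
  refine ⟨line D, isInvertible_line D, ?_⟩
  obtain ⟨φ, -⟩ := H11Ample.exists_iso_of_gen (P := (Scheme.Modules.pullback j).obj (line D)) (Q := N)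
    (fun a : J => j ⁻¹ᵁ V a) (fun y => hV (j y)) (fun a => OmegaSh.pullSect j (line D) (V a) (gen D a))
    (fun a => (isGen_gen D a).pullSect j) e he (fun a b u hu => by
      have h := congrArg (OmegaSh.pullSect j (line D) (V a ⊓ V b)) (gen_trans D b a (V a ⊓ V b) inf_le_right inf_le_left)
      rw [OmegaSh.pullSect_map, OmegaSh.pullSect_smul, OmegaSh.pullSect_map] at h
      have hu' : u = j.app (V a ⊓ V b) (rr (le_inf inf_le_right inf_le_left : V a ⊓ V b ≤ V b ⊓ V a) (G b a)) :=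
        H26Def.LineLift.coeff_unique ((isGen_gen D b).pullSect j) (j.preimage_mono inf_le_right) (hu.symm.trans h)
      rw [hu']
      exact (hGT b a (V a ⊓ V b) inf_le_right inf_le_left).symm)
  exact ⟨φ⟩

end Glue

section Points

variable {A : Type u} [CommRing A] [IsNoetherianRing A] [IsLocalRing A] {f : A} (hf : f ∈ IsLocalRing.maximalIdeal A)
  {U' : (Spec (CommRingCat.of A)).Opens}
  (hVf : ∀ x : PrimeSpectrum A, x.asIdeal ≠ IsLocalRing.maximalIdeal A → f ∈ x.asIdeal → (x : (Spec (CommRingCat.of A) : Scheme.{u})) ∈ U')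

include hVf in
theorem f_notMem {q : PrimeSpectrum A} (hq : q.asIdeal ≠ IsLocalRing.maximalIdeal A)
    (hqU : (q : (Spec (CommRingCat.of A) : Scheme.{u})) ∉ U') : f ∉ q.asIdeal :=
  fun h => hqU (hVf q hq h)

include hf hVf in
/-- The points of the punctured spectrum outside a neighbourhood of `V(f)` are closed. -/
theorem eq_of_le_of_notMem {q r : PrimeSpectrum A} (hq : q.asIdeal ≠ IsLocalRing.maximalIdeal A)
    (hqU : (q : (Spec (CommRingCat.of A) : Scheme.{u})) ∉ U') (hle : q.asIdeal ≤ r.asIdeal)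
    (hr : r.asIdeal ≠ IsLocalRing.maximalIdeal A) : r = q := by
  by_contra hne
  let m := IsLocalRing.maximalIdeal A
  have hmem : ∀ r' : PrimeSpectrum A, q.asIdeal ≤ r'.asIdeal → r'.asIdeal ≠ m → f ∉ r'.asIdeal := fun r' hle' hr' =>
    f_notMem hVf hr' fun h => hqU (((PrimeSpectrum.le_iff_specializes q r').1 hle').mem_open U'.2 h)
  let π := Ideal.Quotient.mk q.asIdeal
  have hker : ∀ I : Ideal A, q.asIdeal ≤ I → (I.map π).comap π = I := fun I hI => by
    rw [Ideal.comap_map_of_surjective _ Ideal.Quotient.mk_surjective, ← RingHom.ker_eq_comap_bot, Ideal.mk_ker,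
      sup_eq_left.2 hI]
  haveI : q.asIdeal.IsPrime := q.2
  haveI hmp : (m.map π).IsPrime :=
    Ideal.map_isPrime_of_surjective Ideal.Quotient.mk_surjective
      (by rw [Ideal.mk_ker]; exact IsLocalRing.le_maximalIdeal q.2.ne_top)
  have hmin : m.map π ∈ (Ideal.span {π f}).minimalPrimes := by
    refine ⟨⟨hmp, (Ideal.span_singleton_le_iff_mem _).2 (Ideal.mem_map_of_mem _ hf)⟩, fun I hI _ => ?_⟩
    haveI := hI.1
    have hqI : q.asIdeal ≤ I.comap π := fun a ha => by
      rw [Ideal.mem_comap, show π a = 0 from Ideal.Quotient.eq_zero_iff_mem.2 ha]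
      exact I.zero_mem
    have : I.comap π = m := by
      by_contra hIm
      exact hmem ⟨I.comap π, inferInstance⟩ hqI hIm (show π f ∈ I from (Ideal.span_singleton_le_iff_mem _).1 hI.2)
    rw [← this, Ideal.map_comap_of_surjective _ Ideal.Quotient.mk_surjective]
  have hht : (m.map π).height ≤ 1 := Ideal.height_le_one_of_isPrincipal_of_mem_minimalPrimes _ _ hmin
  haveI hrp : (r.asIdeal.map π).IsPrime :=
    Ideal.map_isPrime_of_surjective Ideal.Quotient.mk_surjective (by rw [Ideal.mk_ker]; exact hle)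
  haveI : IsDomain (A ⧸ q.asIdeal) := Ideal.Quotient.isDomain _
  have h1 : (⊥ : Ideal (A ⧸ q.asIdeal)) < r.asIdeal.map π := by
    rw [bot_lt_iff_ne_bot]
    intro h
    refine hne (PrimeSpectrum.ext (le_antisymm ?_ hle))
    exact (Ideal.map_eq_bot_iff_le_ker _).1 h |>.trans_eq Ideal.mk_ker
  have h2 : r.asIdeal.map π < m.map π := lt_of_le_of_ne (Ideal.map_mono (IsLocalRing.le_maximalIdeal r.2.ne_top))
    fun h => hr (by
      have := congrArg (Ideal.comap π) h
      rwa [hker _ hle, hker _ (IsLocalRing.le_maximalIdeal q.2.ne_top)] at this)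
  haveI : (m.map π).FiniteHeight := Ideal.finiteHeight_iff_lt.2 (Or.inr (hht.trans_lt (ENat.coe_lt_top 1)))
  haveI : (r.asIdeal.map π).FiniteHeight := Ideal.finiteHeight_of_le h2.le hmp.ne_top
  haveI : (⊥ : Ideal (A ⧸ q.asIdeal)).IsPrime := Ideal.isPrime_bot
  have h3 := Ideal.height_strict_mono_of_isPrime h1
  have h4 := Ideal.height_strict_mono_of_isPrime h2
  have h5 : (r.asIdeal.map π).height = 0 := ENat.lt_one_iff_eq_zero.1 (h4.trans_le hht)
  exact not_lt_bot (h3.trans_eq h5)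

include hf hVf in
/-- Near a point outside, an invertible module on `U'` has a generator off the other such points. -/
theorem exists_gen_at {q : PrimeSpectrum A} (hq : q.asIdeal ≠ IsLocalRing.maximalIdeal A)
    (hqU : (q : (Spec (CommRingCat.of A) : Scheme.{u})) ∉ U')
    (h₅ : Formal2.PicTrivial (↑(FEt.puncturedSpec (Localization.AtPrime q.asIdeal)) : Scheme.{u}))
    (L : (U' : Scheme.{u}).Modules) (hL : PicF.IsInvertible L) :
    ∃ h : A, h ∉ q.asIdeal ∧
      (∀ r : PrimeSpectrum A, r.asIdeal ≠ IsLocalRing.maximalIdeal A → (r : (Spec (CommRingCat.of A) : Scheme.{u})) ∉ U' →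
        h ∉ r.asIdeal → r = q) ∧
      ∃ e : Γ(L, U'.ι ⁻¹ᵁ Db (R := CommRingCat.of A) h), IsGen L e := by
  classical
  let φ : CommRingCat.of A ⟶ CommRingCat.of (Localization.AtPrime q.asIdeal) :=
    CommRingCat.ofHom (algebraMap A (Localization.AtPrime q.asIdeal))
  have hp : PrimeSpectrum.comap φ.hom (IsLocalRing.closedPoint (Localization.AtPrime q.asIdeal)) = q :=
    PrimeSpectrum.ext (Localization.AtPrime.under_maximalIdeal (I := q.asIdeal))
  haveI : IsNoetherianRing (CommRingCat.of A) := ‹IsNoetherianRing A›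
  obtain ⟨h₀, hh₀, O, e, hO, he⟩ := exists_gen_punctured_nhd (R := CommRingCat.of A)
    (S := CommRingCat.of (Localization.AtPrime q.asIdeal)) φ q hp
    (by
      have : φ.hom.toAlgebra = (inferInstance : Algebra A (Localization.AtPrime q.asIdeal)) :=
        Algebra.algebra_ext _ _ fun _ => rfl
      rw [this]
      exact inferInstanceAs (IsLocalization.AtPrime (Localization.AtPrime q.asIdeal) q.asIdeal))
    h₅ (W := U') (fun r hr hne => by_contra fun hrU => hne (eq_of_le_of_notMem hf hVf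
      (fun h => hq (le_antisymm (IsLocalRing.le_maximalIdeal q.2.ne_top) (h.symm.trans_le hr))) hrU hr hq).symm)
    L hL
  obtain ⟨J, hJ⟩ := (PrimeSpectrum.isClosed_iff_zeroLocus_ideal _).1 U'.2.isClosed_compl
  have hfin := Ideal.finite_minimalPrimes_of_isNoetherianRing A J
  let S := hfin.toFinset.filter fun P => ¬ P ≤ q.asIdeal
  have : ∀ P ∈ S, ∃ c ∈ P, c ∉ q.asIdeal := fun P hP => SetLike.not_le_iff_exists.1 (Finset.mem_filter.1 hP).2
  choose! c hcP hcq using this
  obtain ⟨c₁, hc₁m, hc₁q⟩ : ∃ c₁ ∈ IsLocalRing.maximalIdeal A, c₁ ∉ q.asIdeal :=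
    SetLike.not_le_iff_exists.1 fun h => hq (le_antisymm (IsLocalRing.le_maximalIdeal q.2.ne_top) h)
  refine ⟨h₀ * c₁ * ∏ P ∈ S, c P, q.2.mul_notMem (q.2.mul_notMem hh₀ hc₁q) fun h => ?_, fun r hr hrU hhr => ?_, ?_⟩
  · obtain ⟨P, hP, hcP'⟩ := Ideal.IsPrime.prod_mem_iff.1 h
    exact hcq P hP hcP'
  · obtain ⟨P, hPmin, hPr⟩ := Ideal.exists_minimalPrimes_le
      (hJ.subset hrU : J ≤ r.asIdeal)
    haveI := hPmin.1.1
    let P' : PrimeSpectrum A := ⟨P, inferInstance⟩
    have hP'U : (P' : (Spec (CommRingCat.of A) : Scheme.{u})) ∉ U' :=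
      hJ.ge (show P' ∈ PrimeSpectrum.zeroLocus (J : Set A) from hPmin.1.2)
    have hPm : P'.asIdeal ≠ IsLocalRing.maximalIdeal A := fun h =>
      hr (le_antisymm (IsLocalRing.le_maximalIdeal r.2.ne_top) (h.symm.trans_le hPr))
    by_cases hPq : P ≤ q.asIdeal
    · exact (eq_of_le_of_notMem hf hVf hPm hP'U hPr hr).trans (eq_of_le_of_notMem hf hVf hPm hP'U hPq hq).symm
    · exact absurd (r.asIdeal.mul_mem_left _ (Ideal.mem_of_dvd _
        (Finset.dvd_prod_of_mem c (Finset.mem_filter.2 ⟨hfin.mem_toFinset.2 hPmin, hPq⟩))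
        (hPr (hcP P (Finset.mem_filter.2 ⟨hfin.mem_toFinset.2 hPmin, hPq⟩))))) hhr
  · refine ⟨_, he.res (show U'.ι ⁻¹ᵁ Db (R := CommRingCat.of A) (h₀ * c₁ * ∏ P ∈ S, c P) ≤ U'.ι ⁻¹ᵁ O
      from fun y hy => ?_)⟩
    have hy' : h₀ * c₁ * ∏ P ∈ S, c P ∉ (y.1 : PrimeSpectrum A).asIdeal := hy
    refine hO y.1 (fun h => hy' (Ideal.mul_mem_right _ _ (Ideal.mul_mem_right _ _ h))) fun hqy => ?_
    by_cases hym : (y.1 : PrimeSpectrum A).asIdeal = IsLocalRing.maximalIdeal A
    · exact hy' (Ideal.mul_mem_right _ _ (Ideal.mul_mem_left _ _ (hym ▸ hc₁m)))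
    · exact hqU (eq_of_le_of_notMem hf hVf hq hqU hqy hym ▸ y.2)

end Points

/-- Invertible modules on the hypersurface of the punctured spectrum lift to the punctured spectrum. -/
theorem picPullbackSurjective (A : Type u) [CommRing A] [IsNoetherianRing A] [IsLocalRing A]
    (f : A) (hf : f ∈ IsLocalRing.maximalIdeal A) [IsAdicComplete (Ideal.span {f}) A]
    (hnzd : f ∈ nonZeroDivisors A)
    (h₁ : Module.Finite A (LocCoh.H (IsLocalRing.maximalIdeal A) 1 (A ⧸ Ideal.span {f})))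
    (h₂ : Module.Finite A (LocCoh.H (IsLocalRing.maximalIdeal A) 2 (A ⧸ Ideal.span {f})))
    (h₃ : Subsingleton (LocCoh.H (IsLocalRing.maximalIdeal A) 3 (A ⧸ Ideal.span {f})))
    (h₅ : ∀ (q : Ideal A) [q.IsPrime], f ∉ q → (∀ (q' : Ideal A), q'.IsPrime → q ≤ q' → f ∉ q' → q' = q) →
      Formal2.PicTrivial (↑(FEt.puncturedSpec (Localization.AtPrime q)) : Scheme.{u})) :
    Formal2.PicPullbackSurjective (Formal2.specQuotMap A f ∣_ FEt.puncturedSpec A) := by
  rw [H24Punct.puncturedSpec_eq]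
  intro L₀ hL₀
  let U := LocCoh.puncturedOpen A (IsLocalRing.maximalIdeal A)
  obtain ⟨U', hU', h, M, -, hinv, ⟨α⟩⟩ := exists_nbhd_lift A (IsLocalRing.maximalIdeal A) f hnzd h₁ h₂ h₃ L₀ hL₀
  let j := (Spec (CommRingCat.of A)).homOfLE hU'
  let N := (Scheme.Modules.pullback j).obj M
  have hUmem : ∀ x : PrimeSpectrum A, x.asIdeal ≠ IsLocalRing.maximalIdeal A →
      (x : (Spec (CommRingCat.of A) : Scheme.{u})) ∈ U := fun x hx hle =>
    hx ((IsLocalRing.maximalIdeal.isMaximal A).eq_of_le x.2.ne_top hle).symm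
  have hVf : ∀ x : PrimeSpectrum A, x.asIdeal ≠ IsLocalRing.maximalIdeal A → f ∈ x.asIdeal →
      (x : (Spec (CommRingCat.of A) : Scheme.{u})) ∈ U' := fun x hx hfx => by
    have hxK : x ∈ PrimeSpectrum.zeroLocus (RingHom.ker (Ideal.Quotient.mk (Ideal.span {f})) : Set A) := by
      rw [Ideal.mk_ker, PrimeSpectrum.mem_zeroLocus]
      exact (Ideal.span_singleton_le_iff_mem _).2 hfx
    have hxr : (x : (Spec (CommRingCat.of A) : Scheme.{u})) ∈ Set.range (Formal2.specQuotMap A f) :=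
      ((range_comap_of_surjective (A ⧸ Ideal.span {f}) (Ideal.Quotient.mk (Ideal.span {f}))
        Ideal.Quotient.mk_surjective).ge hxK :)
    obtain ⟨z, hz⟩ := hxr
    exact hz ▸ h (show Formal2.specQuotMap A f z ∈ U from hz ▸ hUmem x hx)
  -- indices
  let C := { q : PrimeSpectrum A //
    q.asIdeal ≠ IsLocalRing.maximalIdeal A ∧ (q : (Spec (CommRingCat.of A) : Scheme.{u})) ∉ U' }
  have hne : ∀ x : (U : Scheme.{u}), (x.1 : PrimeSpectrum A).asIdeal ≠ IsLocalRing.maximalIdeal A := fun x hx =>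
    x.2 ((PrimeSpectrum.mem_zeroLocus _ _).2 hx.ge)
  have hgq : ∀ q : C, ∃ hh : A, hh ∉ q.1.asIdeal ∧
      (∀ r : PrimeSpectrum A, r.asIdeal ≠ IsLocalRing.maximalIdeal A → (r : (Spec (CommRingCat.of A) : Scheme.{u})) ∉ U' →
        hh ∉ r.asIdeal → r = q.1) ∧
      ∃ e : Γ(N, U'.ι ⁻¹ᵁ Db (R := CommRingCat.of A) hh), IsGen N e := fun q =>
    exists_gen_at hf hVf q.2.1 q.2.2
      (h₅ q.1.asIdeal (f_notMem hVf q.2.1 q.2.2) fun q' hq' hle hf' =>
        congrArg PrimeSpectrum.asIdeal (eq_of_le_of_notMem hf hVf q.2.1 q.2.2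
          (show q.1.asIdeal ≤ (⟨q', hq'⟩ : PrimeSpectrum A).asIdeal from hle) fun hm => hf' ((show q' = IsLocalRing.maximalIdeal A from hm).symm ▸ hf)))
      N hinv
  choose hh hhq hhuniq eq heq using hgq
  choose Vy ey hyV hey using exists_gen hinv
  let Vs : (U' : Scheme.{u}) ⊕ C → (U : Scheme.{u}).Opens :=
    Sum.elim (fun y => j ''ᵁ Vy y) (fun q => U.ι ⁻¹ᵁ Db (R := CommRingCat.of A) (hh q))
  have hjι : j ≫ U.ι = U'.ι := Scheme.homOfLE_ι _ _
  have hj : j.opensRange = U.ι ⁻¹ᵁ U' := by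
    exact H23Para.opensRange_homOfLE hU'
  have hcover : ∀ x : (U : Scheme.{u}), ∃ a, x ∈ Vs a := fun x => by
    by_cases hx : x.1 ∈ U'
    · obtain ⟨y, rfl⟩ : x ∈ j.opensRange := hj ▸ hx
      exact ⟨.inl y, ⟨y, hyV y, rfl⟩⟩
    · exact ⟨.inr ⟨x.1, hne x, hx⟩, hhq ⟨x.1, hne x, hx⟩⟩
  have hle1 : ∀ y, j ''ᵁ Vy y ≤ j.opensRange := fun y => j.image_le_opensRange _
  have hVV : ∀ a b, a ≠ b → Vs a ⊓ Vs b ≤ j.opensRange := by
    rintro (y | q) (y' | q') hab x hx
    · exact hle1 y hx.1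
    · exact hle1 y hx.1
    · exact hle1 y' hx.2
    · rw [hj]
      by_contra hx'
      exact hab (congrArg Sum.inr (Subtype.ext ((hhuniq q x.1 (hne x) hx' hx.1).symm.trans
        (hhuniq q' x.1 (hne x) hx' hx.2))))
  have hgen : ∀ a, ∃ e : Γ(N, j ⁻¹ᵁ Vs a), IsGen N e := by
    rintro (y | q)
    · exact ⟨_, (hey y).res (j.preimage_image_eq (Vy y)).le⟩
    · exact ⟨_, (heq q).res (show j ⁻¹ᵁ (U.ι ⁻¹ᵁ Db (R := CommRingCat.of A) (hh q)) ≤ _ by
        rw [← Scheme.Hom.comp_preimage, hjι])⟩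
  choose es hes using hgen
  obtain ⟨L, hL, ⟨β⟩⟩ := exists_extension j N Vs hcover hVV es hes
  refine ⟨L, hL, ⟨?_⟩⟩
  have hcomp : (Formal2.specQuotMap A f).resLE U' _ h ≫ j = Formal2.specQuotMap A f ∣_ U := by
    rw [Scheme.Hom.resLE_map, ← Scheme.Hom.resLE_eq_morphismRestrict]
  exact (Scheme.Modules.pullbackCongr hcomp.symm).app L ≪≫ ((Scheme.Modules.pullbackComp _ j).app L).symm ≪≫
    (Scheme.Modules.pullback _).mapIso β ≪≫ α

end Groth.Agent.H3CAlg.LocalPic
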