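import Groth.Agent.H3CAlg.LocalPic.Levels
import Groth.Agent.H24Free.Main
import Groth.Agent.H24FSch.ModSysPush
import Groth.Agent.LeadGE.GenNhd
import Groth.Agent.H4LC.Cd

/-!
# Direct images of invertible modules from the thickenings of a principal ideal
-/

set_option autoImplicit false
set_option linter.style.haveILetI false

noncomputable section

universe u

open CategoryTheory CategoryTheory.Limits AlgebraicGeometry TopologicalSpace Opposite

attribute [-instance] CategoryTheory.catToReflQuiver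
attribute [-instance] Groth.Agent.H10Coh.hasFiniteBiproducts_modules

namespace Groth.Agent.H3CAlg.LocalPic

attribute [local instance 10000] H10Coh.hasSheafifyAb H10Coh.hasWeakSheafifyAb H10Coh.hasExtAb
  H10Coh.enoughInjAb

open H24Formal2.Bridge (tU)

variable {A : Type u} [CommRing A] (t : A) {X : Scheme.{u}} [X.Over (Spec (CommRingCat.of A))]

/-- The free module of rank one is the structure module. -/
def freeOneIso : FlatMod.freeMod X 1 ≅ Coh.structureModule X :=
  coproductUniqueIso (fun _ : Fin 1 => Coh.structureModule X)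

/-- A module generated by one section with annihilator `(t ^ m)` is the truncation of the free module. -/
theorem nonempty_modPow_iso_of_gen (m : ℕ) (M : X.Modules) (ε : Γ(M, ⊤))
    (hk : Formal.smulMod A M (t ^ m) = 0)
    (hb : ∀ (W : X.Opens), ∀ x ∈ W, ∃ (V : X.Opens) (hV : V ≤ W), x ∈ V ∧
      (∀ z : Γ(M, V), ∃ a : Γ(X, V), a • M.presheaf.map (homOfLE (le_top : V ≤ ⊤)).op ε = z) ∧
      ∀ a : Γ(X, V), a • M.presheaf.map (homOfLE (le_top : V ≤ ⊤)).op ε = 0 →
        ∃ c : Γ(X, V), c * H24Formal.scalA A V (t ^ m) = a) :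
    Nonempty (Formal.modPow (Ideal.span {t}) m (FlatMod.freeMod X 1) ≅ M) := by
  let g := H11Tilde.homOfGlobal M ε
  have w : Formal.smulMod A (Coh.structureModule X) (t ^ m) ≫ g = 0 := by
    rw [H24Formal.smulMod_comm, hk, comp_zero]
  haveI : Epi g := H11Tilde.epi_of_locally_surjective g fun W z x hx => by
    obtain ⟨V, hV, hxV, hs, -⟩ := hb W x hx
    obtain ⟨a, ha⟩ := hs (M.presheaf.map (homOfLE hV).op z)
    exact ⟨V, hV, hxV, a, ha⟩
  have hex : (ShortComplex.mk _ _ w).Exact := H11Tilde.exact_of_locally _ fun W z hz x hx => by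
    obtain ⟨V, hV, hxV, -, hker⟩ := hb W x hx
    obtain ⟨c, hc⟩ := hker (X.presheaf.map (homOfLE hV).op z) (Eq.trans (Eq.trans
      (H11Tilde.app_map_apply g hV z) (congrArg _ hz)) (map_zero _))
    exact ⟨V, hV, hxV, c, (mul_comm _ c).trans hc⟩
  exact H24Free.nonempty_modPow_iso t m freeOneIso g _ rfl w hex.gIsCokernel

/-- The scalars on an open subscheme. -/
theorem scalA_ι (V : X.Opens) (hover : V.ι ≫ (X ↘ Spec (CommRingCat.of A)) =
    letI : (V : Scheme.{u}).Over (Spec (CommRingCat.of A)) := ⟨V.ι ≫ (X ↘ Spec (CommRingCat.of A))⟩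
    (V : Scheme.{u}) ↘ Spec (CommRingCat.of A)) (W : (V : Scheme.{u}).Opens) (a : A) :
    letI : (V : Scheme.{u}).Over (Spec (CommRingCat.of A)) := ⟨V.ι ≫ (X ↘ Spec (CommRingCat.of A))⟩
    H24Formal.scalA (X := (V : Scheme.{u})) A W a = H24Formal.scalA A (V.ι ''ᵁ W) a := by
  show (V : Scheme.{u}).presheaf.map _ (V.ι.appTop (Coh.toGlobal (X ↘ Spec (CommRingCat.of A)) a)) = _
  rw [Scheme.Opens.ι_appTop]
  exact (ConcreteCategory.comp_apply _ _ _).symm.trans (congr($((X.presheaf.map_comp _ _).symm) _))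

variable (n : ℕ) (L : (lvl t X n).Modules)

section Local

variable {V : X.Opens} {e : Γ(L, lvlι t X n ⁻¹ᵁ V)}

theorem sections_push (he : H11Tilde.IsGen L e) {O : X.Opens} (hO : IsAffineOpen O) (hOV : O ≤ V) :
    let P := (Scheme.Modules.pushforward (lvlι t X n)).obj L
    (∀ z : Γ(P, O), ∃ b : Γ(X, O), b • P.presheaf.map (homOfLE hOV).op (show Γ(P, V) from e) = z) ∧
      ∀ b : Γ(X, O), b • P.presheaf.map (homOfLE hOV).op (show Γ(P, V) from e) = 0 →
        ∃ c, c * H24Formal.scalA A O (t ^ (n + 1)) = b := by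
  intro P
  have hbij := he.bijective ((lvlι t X n).preimage_mono hOV)
  refine ⟨fun z => ?_, fun b hb => ?_⟩
  · obtain ⟨r, hr⟩ := hbij.2 (show Γ(L, lvlι t X n ⁻¹ᵁ O) from z)
    obtain ⟨b, rfl⟩ := (lvlι t X n).app_surjective O hO r
    exact ⟨b, hr⟩
  · refine (lvlι_app_eq_zero_iff t X hO b).1 (hbij.1 ?_)
    beta_reduce
    rw [zero_smul]
    exact hb

theorem image_le_self (W : (V : Scheme.{u}).Opens) : V.ι ''ᵁ W ≤ V :=
  (V.ι.image_le_opensRange W).trans (le_of_eq V.opensRange_ι)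

theorem restrict_smul' (P : X.Modules) (V : X.Opens) (W : (V : Scheme.{u}).Opens) (b : Γ((V : Scheme.{u}), W))
    (m : Γ(P, V.ι ''ᵁ W)) :
    b • (show Γ((Scheme.Modules.restrictFunctor V.ι).obj P, W) from m) =
      (show Γ((Scheme.Modules.restrictFunctor V.ι).obj P, W) from
        ((show Γ(X, V.ι ''ᵁ W) from b) • m : Γ(P, V.ι ''ᵁ W))) := by
  show ((V.ι.appIso W).inv b) • m = _
  rw [Scheme.Opens.ι_appIso]
  rfl

set_option maxHeartbeats 2000000 in
theorem nonempty_iso_restrict_push (he : H11Tilde.IsGen L e) :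
    letI : (V : Scheme.{u}).Over (Spec (CommRingCat.of A)) := ⟨V.ι ≫ (X ↘ Spec (CommRingCat.of A))⟩
    Nonempty (Formal.modPow (Ideal.span {t}) (n + 1) (FlatMod.freeMod (V : Scheme.{u}) 1) ≅
      (Scheme.Modules.restrictFunctor V.ι).obj ((Scheme.Modules.pushforward (lvlι t X n)).obj L)) := by
  letI : (V : Scheme.{u}).Over (Spec (CommRingCat.of A)) := ⟨V.ι ≫ (X ↘ Spec (CommRingCat.of A))⟩
  let F := Scheme.Modules.restrictFunctor V.ι
  haveI : F.IsLeftAdjoint := (Scheme.Modules.restrictAdjunction V.ι).isLeftAdjoint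
  haveI : F.Additive := (Scheme.Modules.restrictAdjunction V.ι).left_adjoint_additive
  let P := (Scheme.Modules.pushforward (lvlι t X n)).obj L
  have hkP : Formal.smulMod A P (t ^ (n + 1)) = 0 :=
    LeadGE.killedBy_push (fun n => lvlι t X n) (fun n => (isPullback_lvl t X n).w) n L _
      (Ideal.pow_mem_pow (Ideal.mem_span_singleton_self t) _)
  have hk : Formal.smulMod A (F.obj P) (t ^ (n + 1)) = 0 :=
    (H24Free.restrict_map_smulMod' V.ι rfl P _).symm.trans
      ((congrArg (fun k => F.map k) hkP).trans (F.map_zero _ _))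
  refine nonempty_modPow_iso_of_gen t (n + 1) (F.obj P)
    (P.presheaf.map (homOfLE (image_le_self (V := V) ⊤)).op (show Γ(P, V) from e)) hk fun W y hy => ?_
  obtain ⟨W', hW', hyW', hle⟩ := exists_isAffineOpen_mem_and_subset (U := W) hy
  have hres : (F.obj P).presheaf.map (homOfLE (le_top : W' ≤ ⊤)).op
      (P.presheaf.map (homOfLE (image_le_self (V := V) ⊤)).op (show Γ(P, V) from e)) =
      P.presheaf.map (homOfLE (image_le_self W')).op (show Γ(P, V) from e) :=
    H10Coh.mres_mres P _ _ _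
  obtain ⟨h1, h2⟩ := sections_push t n L he (hW'.image_of_isOpenImmersion V.ι) (image_le_self W')
  refine ⟨W', hle, hyW', fun z => ?_, fun b hb => ?_⟩
  · obtain ⟨b, hb⟩ := h1 z
    refine ⟨b, Eq.trans ?_ hb⟩
    rw [hres]
    exact restrict_smul' P V W' b _
  · rw [hres] at hb
    obtain ⟨c, hc⟩ := h2 b ((restrict_smul' P V W' b _).symm.trans hb)
    exact ⟨c, (congrArg (c * ·) (scalA_ι V rfl W' _)).trans hc⟩

theorem nonempty_iso_restrict_free (V : X.Opens) (m : ℕ) :
    letI : (V : Scheme.{u}).Over (Spec (CommRingCat.of A)) := ⟨V.ι ≫ (X ↘ Spec (CommRingCat.of A))⟩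
    Nonempty (Formal.modPow (Ideal.span {t}) m (FlatMod.freeMod (V : Scheme.{u}) 1) ≅
      (Scheme.Modules.restrictFunctor V.ι).obj (Formal.modPow (Ideal.span {t}) m (FlatMod.freeMod X 1))) := by
  letI : (V : Scheme.{u}).Over (Spec (CommRingCat.of A)) := ⟨V.ι ≫ (X ↘ Spec (CommRingCat.of A))⟩
  let F := Scheme.Modules.restrictFunctor V.ι
  haveI : F.IsLeftAdjoint := (Scheme.Modules.restrictAdjunction V.ι).isLeftAdjoint
  haveI : F.Additive := (Scheme.Modules.restrictAdjunction V.ι).left_adjoint_additive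
  let e₀ : FlatMod.freeMod (V : Scheme.{u}) 1 ≅ F.obj (FlatMod.freeMod X 1) :=
    freeOneIso ≪≫ ((Scheme.Modules.restrictFunctorIsoPullback V.ι).app _ ≪≫
      H16Derived.KFlat.Stalk.structurePullbackIso V.ι).symm ≪≫ F.mapIso freeOneIso.symm
  exact H24Free.nonempty_modPow_iso t m e₀ (F.map (Formal.modPowπ (Ideal.span {t}) m _))
    (F.map (Formal.smulMod A _ (t ^ m))) (H24Free.restrict_map_smulMod' V.ι rfl _ _)
    (by rw [← F.map_comp, H24Formal.smulMod_pow_π, F.map_zero])
    (CokernelCofork.mapIsColimit _ (H24Formal.isColimitModPow t m (FlatMod.freeMod X 1)) F)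

end Local

/-- The direct image of an invertible module is locally the truncation of the free module. -/
theorem isFinLocFreeMod_push (hL : PicF.IsInvertible L) :
    Formal2.IsFinLocFreeMod (Ideal.span {t}) (n + 1) ((Scheme.Modules.pushforward (lvlι t X n)).obj L) := by
  intro x
  -- an affine open with a generator of the module over it
  have hgen : ∃ V : X.Opens, x ∈ V ∧ ∃ e : Γ(L, lvlι t X n ⁻¹ᵁ V), H11Tilde.IsGen L e := by
    by_cases hx : x ∈ Set.range (lvlι t X n)
    · obtain ⟨y, rfl⟩ := hx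
      obtain ⟨U, e, hyU, he⟩ := H11Ample.exists_gen hL y
      obtain ⟨O, hO, hyO, hOU⟩ := exists_affine_preimage t X U hyU
      exact ⟨O, hyO, _, he.res hOU⟩
    · let O : X.Opens := ⟨(Set.range (lvlι t X n))ᶜ,
        (lvlι t X n).isClosedEmbedding.isClosed_range.isOpen_compl⟩
      exact ⟨O, hx, 0, fun y hy => absurd ⟨y, rfl⟩ hy⟩
  obtain ⟨V, hxV, e, he⟩ := hgen
  obtain ⟨i₁⟩ := nonempty_iso_restrict_push t n L he
  obtain ⟨i₂⟩ := nonempty_iso_restrict_free t V (n + 1)
  exact ⟨V, 1, hxV, ⟨i₁.symm ≪≫ i₂⟩⟩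

section Punctured

variable (A) [IsNoetherianRing A] (a : Ideal A)

theorem regOn_puncturedOpen (hnzd : t ∈ nonZeroDivisors A) :
    RegOn t (LocCoh.puncturedOpen A a : Scheme.{u}) := fun W hW => by
  let U : Scheme.{u} := (LocCoh.puncturedOpen A a : Scheme.{u})
  let φ : A →+* Γ(U, W) := H24Formal.scalA A W
  haveI : Flat (U ↘ Spec (CommRingCat.of A)) := by
    haveI : IsOpenImmersion (U ↘ Spec (CommRingCat.of A)) :=
      inferInstanceAs (IsOpenImmersion ((LocCoh.puncturedOpen A a).ι ≫ 𝟙 _))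
    infer_instance
  have hflat : φ.Flat := by
    have h := HasRingHomProperty.appLE @Flat (U ↘ Spec (CommRingCat.of A)) inferInstance
      ⟨⊤, isAffineOpen_top _⟩ ⟨W, hW⟩ le_top
    have hφ : φ = ((U ↘ Spec (CommRingCat.of A)).appLE ⊤ W le_top).hom.comp
        (Scheme.ΓSpecIso (CommRingCat.of A)).inv.hom := rfl
    rw [hφ]
    exact RingHom.Flat.comp (RingHom.Flat.of_bijective
      (ConcreteCategory.bijective_of_isIso (Scheme.ΓSpecIso (CommRingCat.of A)).inv)) h
  letI := φ.toAlgebra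
  haveI : Module.Flat A Γ(U, W) := hflat
  exact IsSMulRegular.of_flat (S := Γ(U, W))
    (fun x y hxy => (mul_cancel_left_mem_nonZeroDivisors hnzd).1 hxy)

theorem subsingleton_HnM_lvl_zero (hnzd : t ∈ nonZeroDivisors A)
    (h₃ : Subsingleton (LocCoh.H a 3 (A ⧸ Ideal.span {t}))) :
    Subsingleton (H10Coh.HnM (Coh.structureModule (lvl t (LocCoh.puncturedOpen A a : Scheme.{u}) 0)) 2 ⊤) := by
  let U : Scheme.{u} := (LocCoh.puncturedOpen A a : Scheme.{u})
  let M := (Scheme.Modules.pushforward (lvlι t U 0)).obj (Coh.structureModule (lvl t U 0))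
  obtain ⟨i₁⟩ := nonempty_modPow_iso_of_gen t 1 M (show Γ(M, ⊤) from (1 : Γ(lvl t U 0, ⊤)))
    (LeadGE.killedBy_push (fun n => lvlι t U n) (fun n => (isPullback_lvl t U n).w) 0 _ _
      (Ideal.pow_mem_pow (Ideal.mem_span_singleton_self t) _)) (fun W y hy => by
    obtain ⟨V, hV, hyV, hle⟩ := exists_isAffineOpen_mem_and_subset (U := W) hy
    refine ⟨V, hle, hyV, ?_⟩
    have hone : ∀ b : Γ(U, V), b • M.presheaf.map (homOfLE (le_top : V ≤ ⊤)).op
        (show Γ(M, ⊤) from (1 : Γ(lvl t U 0, ⊤))) = (show Γ(M, V) from (lvlι t U 0).app V b) := fun b =>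
      (congrArg (((lvlι t U 0).app V b : Γ(lvl t U 0, lvlι t U 0 ⁻¹ᵁ V)) * ·)
        (map_one ((lvl t U 0).presheaf.map (homOfLE ((lvlι t U 0).preimage_mono (le_top : V ≤ ⊤))).op).hom)).trans
        (mul_one _)
    refine ⟨fun z => ?_, fun b hb => ?_⟩
    · obtain ⟨b, hb⟩ := (lvlι t U 0).app_surjective V hV (show Γ(lvl t U 0, lvlι t U 0 ⁻¹ᵁ V) from z)
      exact ⟨b, (hone b).trans hb⟩
    · obtain ⟨c, hc⟩ := (lvlι_app_eq_zero_iff t U hV b).1 ((hone b).symm.trans hb)
      exact ⟨c, hc⟩)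
  obtain ⟨θ⟩ := H24Free.nonempty_modPow_freeMod_iso A a t hnzd 1 1
  haveI h3 : Subsingleton (LocCoh.H a 3 (H24Free.quotFree A t 1 1)) :=
    H4LC.subsingleton_H_congr a ((Submodule.quotEquivOfEq _ _ (by rw [pow_one])).trans
      (LinearEquiv.funUnique (Fin 1) A (A ⧸ Ideal.span {t ^ 1})).symm) 3 h₃
  haveI : Subsingleton (Coh.HH U ((tU A (LocCoh.puncturedOpen A a)).obj (H24Free.quotFree A t 1 1)) 2) :=
    subsingleton_of_forall_eq 0 fun x => by
      have h := H24Punct.smul_eq_zero_of_killed A a 1 (H24Free.quotFree A t 1 1) 1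
        (fun z => Subsingleton.elim _ _) x
      rwa [one_smul] at h
  have hM : Subsingleton (H10Coh.HnM M 2 ⊤) :=
    H10Coh.Tw.subsingleton_of_iso (θ.symm ≪≫ i₁) (H10Coh.HHEquiv _ 2).symm.toEquiv.subsingleton
  haveI : (Coh.structureModule (lvl t U 0)).IsQuasicoherent := (H10Coh.isCoh_structureModule' _).1
  exact (H10Coh.affineLerayEquiv (lvlι t U 0) (Coh.structureModule (lvl t U 0)) 2 ⊤).toEquiv.symm.subsingleton

end Punctured

end Groth.Agent.H3CAlg.LocalPic
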