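import Groth.Agent.H3CAlg.LocalPic.PrincipalIdeal
import Groth.Agent.LeadGE.PushSys
import Groth.Agent.H17.Separated
import Groth.Agent.H11Ample.Converse

/-!
# Lifting invertible modules along the thickenings of a principal ideal
-/

set_option autoImplicit false
set_option linter.style.haveILetI false

noncomputable section

universe u

open CategoryTheory CategoryTheory.Limits AlgebraicGeometry TopologicalSpace Opposite

namespace Groth.Agent.H3CAlg.LocalPic

attribute [local instance 10000] H10Coh.hasSheafifyAb H10Coh.hasWeakSheafifyAb H10Coh.hasExtAb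
  H10Coh.enoughInjAb

variable {A : Type u} [CommRing A] (t : A) (X : Scheme.{u}) [X.Over (Spec (CommRingCat.of A))]

/-- The thickening of order `n` of the zero locus of `t`. -/
abbrev lvl (n : ℕ) : Scheme.{u} :=
  pullback (X ↘ Spec (CommRingCat.of A)) (CohB1.specQuot (Ideal.span {t}) n)

/-- The thickening as a closed subscheme. -/
abbrev lvlι (n : ℕ) : lvl t X n ⟶ X := pullback.fst _ _

/-- The structure map of the thickening. -/
abbrev lvlp (n : ℕ) : lvl t X n ⟶ Spec (CommRingCat.of (A ⧸ Ideal.span {t} ^ (n + 1))) := pullback.snd _ _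

theorem isPullback_lvl (n : ℕ) : IsPullback (lvlι t X n) (lvlp t X n) (X ↘ Spec (CommRingCat.of A))
    (CohB1.specQuot (Ideal.span {t}) n) := IsPullback.of_hasPullback _ _

/-- The transition maps of the thickenings. -/
def lvlTrans (n : ℕ) : lvl t X n ⟶ lvl t X (n + 1) :=
  (isPullback_lvl t X (n + 1)).lift (lvlι t X n) (lvlp t X n ≫ CohB1.specQuotTrans (Ideal.span {t}) n)
    (by rw [Category.assoc, CohB1.specQuotTrans_specQuot]; exact (isPullback_lvl t X n).w)

theorem lvlTrans_ι (n : ℕ) : lvlTrans t X n ≫ lvlι t X (n + 1) = lvlι t X n :=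
  (isPullback_lvl t X (n + 1)).lift_fst _ _ _

theorem isPullback_lvlTrans (n : ℕ) : IsPullback (lvlTrans t X n) (lvlp t X n) (lvlp t X (n + 1))
    (CohB1.specQuotTrans (Ideal.span {t}) n) := by
  refine IsPullback.of_right ?_ ((isPullback_lvl t X (n + 1)).lift_snd _ _ _) (isPullback_lvl t X (n + 1))
  rw [lvlTrans_ι t X n, CohB1.specQuotTrans_specQuot]
  exact isPullback_lvl t X n

instance isClosedImmersion_lvlι (n : ℕ) : IsClosedImmersion (lvlι t X n) := by
  haveI : IsClosedImmersion (CohB1.specQuot (Ideal.span {t}) n) :=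
    IsClosedImmersion.spec_of_surjective _ Ideal.Quotient.mk_surjective
  exact MorphismProperty.of_isPullback (isPullback_lvl t X n).flip ‹IsClosedImmersion (CohB1.specQuot _ n)›

instance isClosedImmersion_lvlTrans (n : ℕ) : IsClosedImmersion (lvlTrans t X n) := by
  haveI : IsClosedImmersion (lvlTrans t X n ≫ lvlι t X (n + 1)) := by
    rw [lvlTrans_ι]; infer_instance
  exact IsClosedImmersion.of_comp _ (lvlι t X (n + 1))

/-- The inclusions of the first level. -/
def fromZero : ∀ n, lvl t X 0 ⟶ lvl t X n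
  | 0 => 𝟙 _
  | n + 1 => fromZero n ≫ lvlTrans t X n

theorem fromZero_ι : ∀ n, fromZero t X n ≫ lvlι t X n = lvlι t X 0
  | 0 => Category.id_comp _
  | n + 1 => by rw [fromZero, Category.assoc, lvlTrans_ι, fromZero_ι n]

instance isClosedImmersion_fromZero (n : ℕ) : IsClosedImmersion (fromZero t X n) := by
  haveI : IsClosedImmersion (fromZero t X n ≫ lvlι t X n) := by
    rw [fromZero_ι]; infer_instance
  exact IsClosedImmersion.of_comp _ (lvlι t X n)

theorem span_pow_scalA (n : ℕ) (W : X.Opens) :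
    (Ideal.span {t} ^ (n + 1)).map (H24Formal.scalA A W) = Ideal.span {H24Formal.scalA A W (t ^ (n + 1))} := by
  rw [Ideal.span_singleton_pow, Ideal.map_span, Set.image_singleton]

theorem ker_lvlι (n : ℕ) (W : X.Opens) (hW : IsAffineOpen W) :
    RingHom.ker ((lvlι t X n).app W).hom = Ideal.span {H24Formal.scalA A W (t ^ (n + 1))} := by
  rw [← span_pow_scalA, ← Scheme.Hom.ker_apply (lvlι t X n) ⟨W, hW⟩]
  exact LeadUV.ker_ideal_of_pullback (RingHom.id A) (Ideal.Quotient.mk (Ideal.span {t} ^ (n + 1)))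
    Ideal.Quotient.mk_surjective ((Ideal.mk_ker).trans (Ideal.map_id _).symm) (isPullback_lvl t X n)
    (by rw [CommRingCat.ofHom_id, Spec.map_id, Category.comp_id]) ⟨W, hW⟩

theorem lvlι_app_eq_zero_iff {n : ℕ} {W : X.Opens} (hW : IsAffineOpen W) (b : Γ(X, W)) :
    (lvlι t X n).app W b = 0 ↔ ∃ c, c * H24Formal.scalA A W (t ^ (n + 1)) = b := by
  rw [← Ideal.mem_span_singleton', ← ker_lvlι t X n W hW, RingHom.mem_ker]

/-- Small preimages of affine opens. -/
theorem exists_affine_preimage {n : ℕ} (W : (lvl t X n).Opens) {y : lvl t X n} (hy : y ∈ W) :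
    ∃ O : X.Opens, IsAffineOpen O ∧ y ∈ lvlι t X n ⁻¹ᵁ O ∧ lvlι t X n ⁻¹ᵁ O ≤ W := by
  obtain ⟨O, hO, hOW⟩ := (lvlι t X n).isEmbedding.isInducing.isOpen_iff.1 W.2
  have hyO : lvlι t X n y ∈ (⟨O, hO⟩ : X.Opens) := (Set.ext_iff.1 hOW y).2 hy
  obtain ⟨V, hV, hyV, hVO⟩ := exists_isAffineOpen_mem_and_subset (U := (⟨O, hO⟩ : X.Opens)) hyO
  exact ⟨V, hV, hyV, fun z hz => (Set.ext_iff.1 hOW z).1 (hVO hz)⟩

theorem app_app_of_comp {Y Z : Scheme.{u}} (g : Y ⟶ Z) (h : Z ⟶ X) (W : X.Opens) (b : Γ(X, W)) :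
    g.app (h ⁻¹ᵁ W) (h.app W b) = (g ≫ h).app W b := rfl

theorem app_congr_zero {Y : Scheme.{u}} {g g' : Y ⟶ X} (e : g = g') (W : X.Opens) (b : Γ(X, W)) :
    g.app W b = 0 ↔ g'.app W b = 0 := by subst e; rfl

theorem ker_lvlTrans_iff {n : ℕ} {O : X.Opens} (b : Γ(X, O)) :
    (lvlTrans t X n).app (lvlι t X (n + 1) ⁻¹ᵁ O) ((lvlι t X (n + 1)).app O b) = 0 ↔
      (lvlι t X n).app O b = 0 := app_congr_zero X (lvlTrans_ι t X n) O b

theorem ker_fromZero_iff {n : ℕ} {O : X.Opens} (b : Γ(X, O)) :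
    (fromZero t X n).app (lvlι t X n ⁻¹ᵁ O) ((lvlι t X n).app O b) = 0 ↔
      (lvlι t X 0).app O b = 0 := app_congr_zero X (fromZero_ι t X n) O b

/-- `t` is regular on the functions of the affine opens. -/
abbrev RegOn : Prop := ∀ W : X.Opens, IsAffineOpen W → IsSMulRegular Γ(X, W) (H24Formal.scalA A W t)

/-- `t ^ (n + 1)` on the next level. -/
def powSect (n : ℕ) : Γ(lvl t X (n + 1), ⊤) :=
  (lvlι t X (n + 1)).appTop (Coh.toGlobal (X ↘ Spec (CommRingCat.of A)) (t ^ (n + 1)))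

theorem powSect_res (n : ℕ) (O : X.Opens) :
    (lvl t X (n + 1)).presheaf.map (homOfLE (le_top : lvlι t X (n + 1) ⁻¹ᵁ O ≤ ⊤)).op (powSect t X n) =
      (lvlι t X (n + 1)).app O (H24Formal.scalA A O (t ^ (n + 1))) :=
  (ConcreteCategory.congr_hom ((lvlι t X (n + 1)).naturality (homOfLE (le_top : O ≤ ⊤)).op) _).symm

variable {t X}

theorem ideal_lvlTrans_le (n : ℕ) {O : X.Opens} (hO : IsAffineOpen O) :
    (lvlTrans t X n).ker.ideal ⟨lvlι t X (n + 1) ⁻¹ᵁ O, hO.preimage _⟩ ≤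
      Ideal.span {(lvlι t X (n + 1)).app O (H24Formal.scalA A O (t ^ (n + 1)))} := fun a ha => by
  rw [Scheme.Hom.ker_apply, RingHom.mem_ker] at ha
  obtain ⟨b, rfl⟩ := (lvlι t X (n + 1)).app_surjective O hO a
  obtain ⟨c, rfl⟩ := (lvlι_app_eq_zero_iff t X hO b).1 ((ker_lvlTrans_iff t X b).1 ha)
  exact Ideal.mem_span_singleton'.2 ⟨_, (map_mul _ _ _).symm⟩

theorem mul_pow_eq_zero_iff (hreg : RegOn t X) (n : ℕ) {O : X.Opens} (hO : IsAffineOpen O)
    (a : Γ(lvl t X (n + 1), lvlι t X (n + 1) ⁻¹ᵁ O)) :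
    a * (lvlι t X (n + 1)).app O (H24Formal.scalA A O (t ^ (n + 1))) = 0 ↔
      a ∈ (fromZero t X (n + 1)).ker.ideal ⟨lvlι t X (n + 1) ⁻¹ᵁ O, hO.preimage _⟩ := by
  rw [Scheme.Hom.ker_apply, RingHom.mem_ker]
  obtain ⟨b, rfl⟩ := (lvlι t X (n + 1)).app_surjective O hO a
  rw [← map_mul, lvlι_app_eq_zero_iff t X hO]
  refine Iff.trans ?_ ((ker_fromZero_iff t X b).trans (lvlι_app_eq_zero_iff t X hO b)).symm
  simp only [zero_add, pow_one, map_pow]
  constructor
  · rintro ⟨c, hc⟩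
    refine ⟨c, ((hreg O hO).pow (n + 1)) ?_⟩
    show _ ^ (n + 1) * _ = _ ^ (n + 1) * b
    rw [mul_comm _ b, ← hc]
    ring
  · rintro ⟨c, rfl⟩
    exact ⟨c, by ring⟩

theorem subsingleton_HnM_ker (hreg : RegOn t X) (n k : ℕ)
    (hH : Subsingleton (H10Coh.HnM (Coh.structureModule (lvl t X 0)) k ⊤)) :
    Subsingleton (H10Coh.HnM (ClSub.idealMod (lvlTrans t X n).ker) k ⊤) := by
  have hs : (lvlTrans t X n).ker.subschemeι.app ⊤ (powSect t X n) = 0 := by
    let Z := (lvlTrans t X n).ker.subscheme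
    refine H7Flat.LineCocycle.rr_locally _ _ fun z _ => ?_
    obtain ⟨O, hO, hzO, -⟩ := exists_affine_preimage t X
      (⊤ : (lvl t X (n + 1)).Opens) (y := (lvlTrans t X n).ker.subschemeι z) trivial
    refine ⟨(lvlTrans t X n).ker.subschemeι ⁻¹ᵁ (lvlι t X (n + 1) ⁻¹ᵁ O), le_top, hzO, ?_⟩
    rw [map_zero]
    refine (ConcreteCategory.congr_hom ((lvlTrans t X n).ker.subschemeι.naturality
      (homOfLE (le_top : lvlι t X (n + 1) ⁻¹ᵁ O ≤ ⊤)).op) (powSect t X n)).symm.trans ?_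
    show (lvlTrans t X n).ker.subschemeι.app _ ((lvl t X (n + 1)).presheaf.map _ (powSect t X n)) = 0
    rw [powSect_res, ← RingHom.mem_ker,
      (lvlTrans t X n).ker.ker_subschemeι_app ⟨_, hO.preimage _⟩, Scheme.Hom.ker_apply, RingHom.mem_ker]
    exact (ker_lvlTrans_iff t X _).2 ((lvlι_app_eq_zero_iff t X hO _).2 ⟨1, one_mul _⟩)
  refine subsingleton_HnM_idealMod_principal _ (fromZero t X (n + 1)).ker (powSect t X n) hs
    (fun W y hy => ?_) k ?_
  · obtain ⟨O, hO, hyO, hOW⟩ := exists_affine_preimage t X W hy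
    refine ⟨_, hO.preimage _, hyO, hOW, ?_, fun a => ?_⟩
    · rw [powSect_res]; exact ideal_lvlTrans_le n hO
    · rw [powSect_res]; exact mul_pow_eq_zero_iff hreg n hO a
  · obtain ⟨e⟩ := nonempty_structure_iso_push (fromZero t X (n + 1)).toImage
    exact H10Coh.Tw.subsingleton_of_iso e.symm (H26Def.subsingleton_HnM_push _ _
      (H10Coh.isCoh_structureModule' _).1 k hH)

theorem sq_ker_lvlTrans (n : ℕ) : (lvlTrans t X n).ker ^ 2 = ⊥ := by
  refine Scheme.IdealSheafData.ext_of_iSup_eq_top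
    (fun W : X.affineOpens => (⟨lvlι t X (n + 1) ⁻¹ᵁ W.1, W.2.preimage _⟩ : (lvl t X (n + 1)).affineOpens))
    (top_le_iff.mp fun y _ => ?_) fun W => le_antisymm ?_ bot_le
  · obtain ⟨V, hV, hyV, -⟩ := exists_isAffineOpen_mem_and_subset (Opens.mem_top (lvlι t X (n + 1) y))
    exact Opens.mem_iSup.mpr ⟨⟨V, hV⟩, hyV⟩
  · rw [Scheme.IdealSheafData.ideal_pow]
    refine (Ideal.pow_right_mono (ideal_lvlTrans_le n W.2) 2).trans ?_
    rw [Ideal.span_singleton_pow, Ideal.span_le, Set.singleton_subset_iff]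
    show _ ∈ (⊥ : Ideal _)
    rw [Ideal.mem_bot, ← map_pow, lvlι_app_eq_zero_iff t X W.2]
    refine ⟨H24Formal.scalA A W.1 (t ^ n), ?_⟩
    rw [← map_pow, ← map_mul]
    ring_nf

/-- An invertible module on the first level lifts to all levels. -/
theorem exists_system [X.IsSeparated] (hreg : RegOn t X)
    (hH : Subsingleton (H10Coh.HnM (Coh.structureModule (lvl t X 0)) 2 ⊤))
    (L₀ : (lvl t X 0).Modules) (hL₀ : PicF.IsInvertible L₀) :
    ∃ L : ∀ n : ℕ, (lvl t X n).Modules, (∀ n, PicF.IsInvertible (L n)) ∧ Nonempty (L 0 ≅ L₀) ∧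
      ∀ n, Nonempty ((Scheme.Modules.pullback (lvlTrans t X n)).obj (L (n + 1)) ≅ L n) := by
  have step : ∀ (n : ℕ) (M : (lvl t X n).Modules), PicF.IsInvertible M → ∃ M' : (lvl t X (n + 1)).Modules,
      PicF.IsInvertible M' ∧ Nonempty ((Scheme.Modules.pullback (lvlTrans t X n)).obj M' ≅ M) := by
    intro n M hM
    let τ := lvlTrans t X n
    haveI : (lvl t X (n + 1)).IsSeparated := ⟨by
      rw [terminal.hom_ext (terminal.from _) (lvlι t X (n + 1) ≫ terminal.from X)]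
      infer_instance⟩
    let k := inv τ.toImage
    obtain ⟨L, hL, ⟨φ⟩⟩ := H26Def.LineLift.exists_lift τ.ker (sq_ker_lvlTrans n)
      (haveI := subsingleton_HnM_ker hreg n 2 hH; (H10Coh.HHEquiv _ 2).toEquiv.subsingleton)
      ((Scheme.Modules.pullback k).obj M) (H11Ample.isInvertible_pullback k hM)
    exact ⟨L, hL, ⟨(Scheme.Modules.pullbackCongr τ.toImage_imageι.symm).app L ≪≫
      ((Scheme.Modules.pullbackComp τ.toImage τ.imageι).app L).symm ≪≫
      (Scheme.Modules.pullback τ.toImage).mapIso φ ≪≫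
      (Scheme.Modules.pullbackComp τ.toImage k).app M ≪≫
      (Scheme.Modules.pullbackCongr (IsIso.hom_inv_id _)).app M ≪≫ (Scheme.Modules.pullbackId _).app M⟩⟩
  choose next hnext hiso using step
  let L : ∀ n, { M : (lvl t X n).Modules // PicF.IsInvertible M } := fun n =>
    Nat.rec (motive := fun n => { M : (lvl t X n).Modules // PicF.IsInvertible M }) ⟨L₀, hL₀⟩
      (fun n p => ⟨next n p.1 p.2, hnext n p.1 p.2⟩) n
  exact ⟨fun n => (L n).1, fun n => (L n).2, ⟨Iso.refl _⟩, fun n => hiso n (L n).1 (L n).2⟩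

end Groth.Agent.H3CAlg.LocalPic
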