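import Groth.Agent.H26Def.AdicPic
import Groth.Agent.H26Def.LineLift
import Groth.Agent.H11Tilde.TwistPow
import Groth.Agent.H29Blow.IdealMod

/-!
# The cohomology of an ideal module generated by one global function
-/

set_option autoImplicit false
set_option linter.style.haveILetI false

universe u

open CategoryTheory CategoryTheory.Limits AlgebraicGeometry TopologicalSpace Opposite

namespace Groth.Agent.H3CAlg.LocalPic

attribute [local instance 10000] H10Coh.hasSheafifyAb H10Coh.hasWeakSheafifyAb H10Coh.hasExtAb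
  H10Coh.enoughInjAb

variable {Y : Scheme.{u}}

/-- The structure module of an isomorphic scheme pushes forward to the structure module. -/
theorem nonempty_structure_iso_push {X : Scheme.{u}} (k : X ⟶ Y) [IsIso k] :
    Nonempty (Coh.structureModule Y ≅ (Scheme.Modules.pushforward k).obj (Coh.structureModule X)) := by
  let φ := H11Tilde.homOfGlobal ((Scheme.Modules.pushforward k).obj (Coh.structureModule X))
    (1 : Γ(X, k ⁻¹ᵁ ⊤))
  haveI : IsIso φ := H11Tilde.isIso_homOfGlobal _ _ fun V => by
    have hfun : (fun r : Γ(Y, V) => r • ((Scheme.Modules.pushforward k).obj (Coh.structureModule X)).presheaf.map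
        (homOfLE (le_top : V ≤ ⊤)).op (1 : Γ(X, k ⁻¹ᵁ ⊤))) = fun r => (k.app V r : Γ(X, k ⁻¹ᵁ V)) := by
      funext r
      show (k.app V r : Γ(X, k ⁻¹ᵁ V)) * X.presheaf.map (homOfLE (k.preimage_mono le_top)).op (1 : Γ(X, k ⁻¹ᵁ ⊤)) = _
      exact (congrArg ((k.app V r : Γ(X, k ⁻¹ᵁ V)) * ·) (map_one _)).trans (mul_one _)
    rw [hfun]
    exact ConcreteCategory.bijective_of_isIso (k.app V)
  exact ⟨asIso φ⟩

variable (I K : Y.IdealSheafData) (s : Γ(Y, ⊤))

/-- Multiplication by a global function, on the structure module. -/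
noncomputable def mulGlobal : Coh.structureModule Y ⟶ Coh.structureModule Y :=
  H11Tilde.homOfGlobal (Coh.structureModule Y) s

theorem mulGlobal_app (W : Y.Opens) (a : Γ(Y, W)) :
    (mulGlobal s).app W a = a * Y.presheaf.map (homOfLE (le_top : W ≤ ⊤)).op s := rfl

theorem mulGlobal_toSubscheme (hs : I.subschemeι.app ⊤ s = 0) :
    mulGlobal s ≫ ClSub.toSubscheme I = 0 := Scheme.Modules.hom_ext _ _ fun W =>
  ConcreteCategory.hom_ext _ _ fun r => by
    let M := Coh.structureModule Y
    let g : Γ(M, ⊤) := s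
    have h1 : (ClSub.toSubscheme I).app W (M.presheaf.map (homOfLE (le_top : W ≤ ⊤)).op g) = 0 := by
      rw [H11Tilde.app_map_apply]
      exact (congrArg _ (show (ClSub.toSubscheme I).app ⊤ g = 0 from hs)).trans (map_zero _)
    show (ClSub.toSubscheme I).app W ((show Γ(Y, W) from r) •
      M.presheaf.map (homOfLE (le_top : W ≤ ⊤)).op g) = 0
    rw [Scheme.Modules.Hom.app_smul, h1, smul_zero]

/-- The map from the structure module to the ideal module sending one to the global function. -/
noncomputable def toIdealMod (hs : I.subschemeι.app ⊤ s = 0) : Coh.structureModule Y ⟶ ClSub.idealMod I :=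
  kernel.lift _ (mulGlobal s) (mulGlobal_toSubscheme I s hs)

theorem idealSect_toIdealMod (hs : I.subschemeι.app ⊤ s = 0) (W : Y.Opens)
    (a : Γ(Coh.structureModule Y, W)) :
    OmegaSh.idealSect I W ((toIdealMod I s hs).app W a) =
      (show Γ(Y, W) from a) * Y.presheaf.map (homOfLE (le_top : W ≤ ⊤)).op s := by
  have h : toIdealMod I s hs ≫ ClSub.idealModι I = mulGlobal s := kernel.lift_ι _ _ _
  exact congr($(congrArg (fun k => Scheme.Modules.Hom.app k W) h) a)

variable (hs : I.subschemeι.app ⊤ s = 0)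
  (h : ∀ (W : Y.Opens), ∀ y ∈ W, ∃ (V : Y.Opens) (hV : IsAffineOpen V), y ∈ V ∧ V ≤ W ∧
    I.ideal ⟨V, hV⟩ ≤ Ideal.span {Y.presheaf.map (homOfLE (le_top : V ≤ ⊤)).op s} ∧
    ∀ a : Γ(Y, V), a * Y.presheaf.map (homOfLE (le_top : V ≤ ⊤)).op s = 0 ↔ a ∈ K.ideal ⟨V, hV⟩)

include h in
theorem mul_idealSect_eq_zero (W : Y.Opens) (z : Γ(ClSub.idealMod K, W)) :
    OmegaSh.idealSect K W z * Y.presheaf.map (homOfLE (le_top : W ≤ ⊤)).op s = 0 := by
  refine H7Flat.LineCocycle.rr_locally _ _ fun y hy => ?_
  obtain ⟨V, hV, hyV, hVW, -, hann⟩ := h W y hy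
  refine ⟨V, hVW, hyV, ?_⟩
  rw [map_mul, map_zero, H10Coh.rres_rres]
  exact (hann _).2 ((H29Blow.mem_ideal_iff_exists_idealSect K hV _).2 ⟨_, H29Blow.idealSect_res K hVW z⟩)

include h in
theorem idealModι_toIdealMod : ClSub.idealModι K ≫ toIdealMod I s hs = 0 :=
  Scheme.Modules.hom_ext _ _ fun W => ConcreteCategory.hom_ext _ _ fun z => by
    refine H29Blow.idealSect_injective I W ?_
    refine ((idealSect_toIdealMod I s hs W _).trans (mul_idealSect_eq_zero I K s h W z)).trans ?_
    exact (map_zero _).symm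

include h in
theorem epi_toIdealMod : Epi (toIdealMod I s hs) :=
  H11Tilde.epi_of_locally_surjective _ fun W t y hy => by
    obtain ⟨V, hV, hyV, hVW, hle, -⟩ := h W y hy
    obtain ⟨a, ha⟩ := Ideal.mem_span_singleton'.1
      (hle ((H29Blow.mem_ideal_iff_exists_idealSect I hV _).2
        ⟨(ClSub.idealMod I).presheaf.map (homOfLE hVW).op t, rfl⟩))
    exact ⟨V, hVW, hyV, a, H29Blow.idealSect_injective I V ((idealSect_toIdealMod I s hs V a).trans ha)⟩

include h in
theorem exact_toIdealMod :
    (ShortComplex.mk _ _ (idealModι_toIdealMod I K s hs h)).Exact :=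
  H11Tilde.exact_of_locally _ fun W t ht y hy => by
    obtain ⟨V, hV, hyV, hVW, -, hann⟩ := h W y hy
    refine ⟨V, hVW, hyV, ?_⟩
    have h0 : (show Γ(Y, W) from t) * Y.presheaf.map (homOfLE (le_top : W ≤ ⊤)).op s = 0 :=
      (idealSect_toIdealMod I s hs W t).symm.trans ((congrArg _ ht).trans (map_zero _))
    have h1 := congrArg (Y.presheaf.map (homOfLE hVW).op) h0
    rw [map_mul, map_zero, H10Coh.rres_rres] at h1
    exact (H29Blow.mem_ideal_iff_exists_idealSect K hV _).1 ((hann _).1 h1)

include hs h in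
/-- An ideal generated by a global function whose annihilator is `K` has the cohomology of `O/K`. -/
theorem subsingleton_HnM_idealMod_principal (n : ℕ)
    (hH : Subsingleton (H10Coh.HnM (Coh.structureModule K.subscheme) n ⊤)) :
    Subsingleton (H10Coh.HnM (ClSub.idealMod I) n ⊤) := by
  haveI := H10Coh.epi_toSubscheme K
  haveI := epi_toIdealMod I K s hs h
  let e : ClSub.quotMod K ≅ ClSub.idealMod I :=
    (H10Coh.shortExact_kernel (ClSub.toSubscheme K)).gIsCokernel.coconePointUniqueUpToIso
      (exact_toIdealMod I K s hs h).gIsCokernel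
  have hq : Coh.IsQCoh (Coh.structureModule K.subscheme) := (H10Coh.isCoh_structureModule' _).1
  have h2 := H26Def.subsingleton_HnM_push (X := K.subscheme) (Y := Y) K.subschemeι (Coh.structureModule K.subscheme) hq n hH
  exact H10Coh.Tw.subsingleton_of_iso (M := ClSub.quotMod K) (N := ClSub.idealMod I) e h2

end Groth.Agent.H3CAlg.LocalPic
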